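import Cfsg.Agent.Lib.NonComponent.Centralizer
import Cfsg.Agent.Lib.CoreKilling.FromNormalRankThree
import Cfsg.Agent.Lib.Signalizer.Core
import Cfsg.Agent.Lib.OddOrderTheorem.Basic

/-!
# Core killing for constrained centralisers and a connected Sylow 2-subgroup

* `exists_rank_three_sylow` : the 2-rank of a Sylow 2-subgroup
* `exists_setting` : a connected Sylow 2-subgroup of 2-rank at least 3 gives a `CoreKilling.Setting`
* `core_eq_bot` : with constrained centralisers and `O(H) ≤ O(G)` for strongly embedded `H`,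
  all the cores are trivial
-/

set_option autoImplicit false

namespace Cfsg.Agent.NonComponent

open Subgroup CoreKilling
open scoped Pointwise

variable {G : Type*} [Group G] [Finite G] {S : Sylow 2 G}

theorem isFour_of_isKleinFour {U : Subgroup (S : Subgroup G)} (h : IsKleinFour U) :
    IsFour (U.map (S : Subgroup G).subtype) := by
  haveI := h
  haveI : IsMulCommutative U := ⟨⟨fun a b => mul_comm_of_exponent_two IsKleinFour.exponent_two a b⟩⟩
  refine ⟨⟨inferInstance, ?_⟩, ?_⟩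
  · rintro _ ⟨u, hu, rfl⟩
    have := Monoid.pow_exponent_eq_one (⟨u, hu⟩ : U)
    rw [IsKleinFour.exponent_two] at this
    rw [← map_pow, show u ^ 2 = 1 from congrArg Subtype.val this, map_one]
  · rw [Cores.card_map_subtype, IsKleinFour.card_four]; norm_num

theorem isKleinFour_of_elemAb {E : Subgroup G} (hE : Cfsg.IsElementaryAbelian 2 E)
    (h4 : Nat.card E = 4) (hES : E ≤ (S : Subgroup G)) :
    IsKleinFour (E.subgroupOf (S : Subgroup G)) := by
  have hcard : Nat.card (E.subgroupOf (S : Subgroup G)) = 4 := by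
    rw [Cores.card_subgroupOf hES, h4]
  haveI : Nontrivial (E.subgroupOf (S : Subgroup G)) :=
    Finite.one_lt_card_iff_nontrivial.1 (by omega)
  refine ⟨hcard, (Nat.dvd_prime Nat.prime_two).1 (Monoid.exponent_dvd_of_forall_pow_eq_one
    fun u => Subtype.ext (Subtype.ext (hE.2 _ (mem_subgroupOf.1 u.2)))) |>.resolve_left
      fun h1 => ?_⟩
  obtain ⟨u, hu⟩ := exists_ne (1 : E.subgroupOf (S : Subgroup G))
  haveI := Monoid.exp_eq_one_iff.1 h1
  exact hu (Subsingleton.elim u 1)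

theorem exists_rank_three_sylow (hrank : ¬ Cfsg.PRankLE 2 2 G) (S : Sylow 2 G) :
    ∃ F : Subgroup G, Cfsg.IsElementaryAbelian 2 F ∧ 2 ^ 3 ≤ Nat.card F ∧
      F ≤ (S : Subgroup G) := by
  haveI : Fact (Nat.Prime 2) := ⟨Nat.prime_two⟩
  simp only [Cfsg.PRankLE, not_forall, not_le] at hrank
  obtain ⟨B, hBc, hBe, hBcard⟩ := hrank
  have hB : Cfsg.IsElementaryAbelian 2 B := ⟨hBc, hBe⟩
  obtain ⟨n, hn⟩ := IsPGroup.iff_card.1 (Signalizer.isPGroup_of_elemAb hB)
  have hn3 : 2 ^ 3 ≤ Nat.card B := by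
    rw [hn] at hBcard ⊢
    exact Nat.pow_le_pow_right two_pos ((Nat.pow_lt_pow_iff_right one_lt_two).1 hBcard)
  obtain ⟨P, hP⟩ := (Signalizer.isPGroup_of_elemAb hB).exists_le_sylow
  obtain ⟨g, rfl⟩ := MulAction.exists_smul_eq G P S
  refine ⟨MulAut.conj g • B, ⟨⟨⟨?_⟩⟩, ?_⟩, ?_, ?_⟩
  · rintro ⟨_, a, ha, rfl⟩ ⟨_, b, hb, rfl⟩
    refine Subtype.ext ?_
    exact ((show Commute a b from Signalizer.commute_of_isMulCommutative hBc ha hb).map
      (MulAut.conj g).toMonoidHom).eq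
  · rintro _ ⟨a, ha, rfl⟩
    exact (map_pow _ a 2).symm.trans ((congrArg _ (hBe a ha)).trans (map_one _))
  · rw [Solvable.card_conj]; exact hn3
  · exact Solvable.conj_mono g hP

theorem exists_four_le {F : Subgroup G} (hF : Cfsg.IsElementaryAbelian 2 F)
    (hF4 : 2 ^ 2 ≤ Nat.card F) : ∃ E ≤ F, Cfsg.IsElementaryAbelian 2 E ∧ Nat.card E = 4 := by
  haveI : Fact (Nat.Prime 2) := ⟨Nat.prime_two⟩
  obtain ⟨n, hn⟩ := IsPGroup.iff_card.1 (Signalizer.isPGroup_of_elemAb hF)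
  have h2 : 2 ≤ n := by
    by_contra hlt
    have : 2 ^ n ≤ 2 ^ 1 := Nat.pow_le_pow_right two_pos (by omega)
    rw [hn] at hF4
    omega
  obtain ⟨E, hE⟩ := Sylow.exists_subgroup_card_pow_prime (G := F) 2 (n := 2)
    (hn ▸ pow_dvd_pow 2 h2)
  refine ⟨E.map F.subtype, map_subtype_le E, Signalizer.elemAb_of_le hF (map_subtype_le E), ?_⟩
  rw [Cores.card_map_subtype, hE]; norm_num

/-- The join of the cores over a subgroup. -/
noncomputable def wCore (F : Subgroup G) : Subgroup G :=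
  ⨆ a : {a : G // a ∈ F ∧ a ≠ 1}, Cfsg.centralizerPPrimeCore 2 (a : G)

theorem wCore_spec
    (hθ : ∀ F : Subgroup G, Cfsg.IsElementaryAbelian 2 F → 2 ^ 3 ≤ Nat.card F →
      Cfsg.IsSolvableSignalizerFunctor 2 F (fun a => Cfsg.centralizerPPrimeCore 2 a))
    {F : Subgroup G} (hF : Cfsg.IsElementaryAbelian 2 F) (hF3 : 2 ^ 3 ≤ Nat.card F) :
    ¬ 2 ∣ Nat.card ↥(wCore F) ∧ F ≤ normalizer (wCore F : Set G) ∧
      ∀ a ∈ F, a ≠ 1 → wCore F ⊓ centralizer {a} = Cfsg.centralizerPPrimeCore 2 a := by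
  haveI : Fact (Nat.Prime 2) := ⟨Nat.prime_two⟩
  obtain ⟨-, hodd, hfix⟩ := Signalizer.solvable_signalizer_functor hF hF3 (hθ F hF hF3)
  exact ⟨hodd, Signalizer.le_normalizer_iSup fun a => Signalizer.invariant_core hF.1 a.2.1, hfix⟩

theorem wCore_eq
    (hθ : ∀ F : Subgroup G, Cfsg.IsElementaryAbelian 2 F → 2 ^ 3 ≤ Nat.card F →
      Cfsg.IsSolvableSignalizerFunctor 2 F (fun a => Cfsg.centralizerPPrimeCore 2 a))
    {E F F' : Subgroup G} (hE : IsFour E) (hF : Cfsg.IsElementaryAbelian 2 F)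
    (hF3 : 2 ^ 3 ≤ Nat.card F) (hEF : E ≤ F) (hF' : Cfsg.IsElementaryAbelian 2 F')
    (hF'3 : 2 ^ 3 ≤ Nat.card F') (hEF' : E ≤ F') : wCore F = wCore F' := by
  haveI : Fact (Nat.Prime 2) := ⟨Nat.prime_two⟩
  obtain ⟨o, n, f⟩ := wCore_spec hθ hF hF3
  obtain ⟨o', n', f'⟩ := wCore_spec hθ hF' hF'3
  exact le_antisymm
    (Signalizer.le_of_elements hE.1 hE.2 _ _ o (hEF.trans n) fun e he he1 =>
      (f e (hEF he) he1).le.trans (le_iSup_of_le ⟨e, hEF' he, he1⟩ le_rfl))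
    (Signalizer.le_of_elements hE.1 hE.2 _ _ o' (hEF'.trans n') fun e he he1 =>
      (f' e (hEF' he) he1).le.trans (le_iSup_of_le ⟨e, hEF he, he1⟩ le_rfl))

/-- Every involution of a connected Sylow 2-subgroup of 2-rank at least 3 lies in an elementary
abelian subgroup of order 8 with the same join of cores. -/
theorem exists_setting
    (hθ : ∀ F : Subgroup G, Cfsg.IsElementaryAbelian 2 F → 2 ^ 3 ≤ Nat.card F →
      Cfsg.IsSolvableSignalizerFunctor 2 F (fun a => Cfsg.centralizerPPrimeCore 2 a))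
    (hS : Cfsg.IsFourConnected ↥(S : Subgroup G)) {F₀ : Subgroup G}
    (hF₀ : Cfsg.IsElementaryAbelian 2 F₀) (hF₀3 : 2 ^ 3 ≤ Nat.card F₀)
    (hF₀S : F₀ ≤ (S : Subgroup G)) :
    ∃ W : Subgroup G, Setting S W ∧ ∀ x ∈ S, orderOf x = 2 → ∃ F : Subgroup G,
      Cfsg.IsElementaryAbelian 2 F ∧ 2 ^ 3 ≤ Nat.card F ∧ x ∈ F ∧ F ≤ (S : Subgroup G) := by
  haveI : Fact (Nat.Prime 2) := ⟨Nat.prime_two⟩
  obtain ⟨E₀, hE₀F, hE₀, hE₀4⟩ := exists_four_le hF₀ (le_trans (by norm_num) hF₀3)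
  have hprop : ∀ V : Subgroup (S : Subgroup G), IsKleinFour V → ∃ F : Subgroup G,
      Cfsg.IsElementaryAbelian 2 F ∧ 2 ^ 3 ≤ Nat.card F ∧ F ≤ (S : Subgroup G) ∧
        V.map (S : Subgroup G).subtype ≤ F ∧ wCore F = wCore F₀ := by
    intro V hV
    have h0 := hS _ V (isKleinFour_of_elemAb hE₀ hE₀4 (hE₀F.trans hF₀S)) hV
    clear hV
    induction h0 with
    | refl =>
      refine ⟨F₀, hF₀, hF₀3, hF₀S, ?_, rfl⟩
      rw [subgroupOf_map_subtype]
      exact inf_le_left.trans hE₀F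
    | @tail U V _ hUV ih =>
      obtain ⟨F, hF, hF3, hFS, hUF, hW⟩ := ih
      by_cases hne : V ≤ U
      · exact ⟨F, hF, hF3, hFS, (map_mono hne).trans hUF, hW⟩
      obtain ⟨hU, hV, hc⟩ := hUV
      have hU' := isFour_of_isKleinFour hU
      have hV' := isFour_of_isKleinFour hV
      set U' := U.map (S : Subgroup G).subtype with hUdef
      set V' := V.map (S : Subgroup G).subtype with hVdef
      have he : Cfsg.IsElementaryAbelian 2 (U' ⊔ V') := by
        refine Signalizer.elemAb_sup hU'.1 hV'.1 ?_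
        rintro _ ⟨a, ha, rfl⟩ _ ⟨b, hb, rfl⟩
        exact congrArg Subtype.val (hc a ha b hb)
      have h8 : 2 ^ 3 ≤ Nat.card ↥(U' ⊔ V') := by
        obtain ⟨n, hn⟩ := IsPGroup.iff_card.1 (Signalizer.isPGroup_of_elemAb he)
        rw [hn]
        refine Nat.pow_le_pow_right two_pos (Nat.succ_le_iff.2 ((Nat.pow_lt_pow_iff_right one_lt_two).1 ?_))
        rw [← hn]
        refine lt_of_le_of_lt hU'.2 (lt_of_le_of_ne (card_le_of_le le_sup_left) fun heq => hne ?_)
        have : V' ≤ U' := le_sup_right.trans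
          (eq_of_le_of_card_ge (le_sup_left : U' ≤ U' ⊔ V') heq.ge).ge
        exact (map_le_map_iff_of_injective (S : Subgroup G).subtype_injective).1 this
      exact ⟨U' ⊔ V', he, h8, sup_le (map_subtype_le U) (map_subtype_le V), le_sup_right,
        (wCore_eq hθ hU' he h8 le_sup_left hF hF3 hUF).trans hW⟩
  -- fours through each involution
  have hmem : ∀ x ∈ S, orderOf x = 2 → ∃ F : Subgroup G, Cfsg.IsElementaryAbelian 2 F ∧
      2 ^ 3 ≤ Nat.card F ∧ x ∈ F ∧ F ≤ (S : Subgroup G) ∧ wCore F = wCore F₀ := by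
    intro x hxS hx
    have hx2 : x ^ 2 = 1 := hx ▸ pow_orderOf_eq_one x
    obtain ⟨z, ⟨hzS, hzc⟩, hz1, hz2⟩ := PLocal.exists_central_of_order_p S.isPGroup'
      (fun e => by
        have : x = 1 := (mem_bot (G := G)).1 (e ▸ hxS)
        rw [this, orderOf_one] at hx; omega)
    have hzcomm : ∀ {s : G}, s ∈ S → Commute s z := fun hs => (mem_centralizer_iff.1 hzc _ hs)
    obtain ⟨y, hyS, hy2, hxy, hne⟩ : ∃ y ∈ S, y ^ 2 = 1 ∧ Commute x y ∧ y ∉ zpowers x := by
      by_cases hzx : z ∈ zpowers x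
      · obtain ⟨y, hyF, hy⟩ : ∃ y ∈ F₀, y ∉ zpowers x := SetLike.not_le_iff_exists.1 fun hle => by
          have := card_le_of_le hle
          rw [Nat.card_zpowers, hx] at this
          omega
        refine ⟨y, hF₀S hyF, hF₀.2 y hyF, ?_, hy⟩
        have hxz : x = z := by
          obtain ⟨i, hi⟩ := mem_zpowers_iff.1 hzx
          rcases Int.emod_two_eq_zero_or_one i with hi2 | hi2 <;>
            rw [← zpow_mod_orderOf, hx, Nat.cast_ofNat, hi2] at hi
          · exact absurd (by rw [← hi, zpow_zero]) hz1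
          · rw [← hi, zpow_one]
        exact hxz ▸ (hzcomm (hF₀S hyF)).symm
      · exact ⟨z, hzS, hz2, hzcomm hxS, hzx⟩
    have he : Cfsg.IsElementaryAbelian 2 (zpowers x ⊔ zpowers y) := by
      refine Signalizer.elemAb_sup (isElementaryAbelian_zpowers hx2) (isElementaryAbelian_zpowers hy2) ?_
      intro a ha b hb
      obtain ⟨i, rfl⟩ := mem_zpowers_iff.1 ha
      obtain ⟨j, rfl⟩ := mem_zpowers_iff.1 hb
      exact (hxy.zpow_zpow i j).eq
    have h4 : Nat.card ↥(zpowers x ⊔ zpowers y) = 4 := by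
      rw [Signalizer.card_sup_zpowers he le_sup_left
        ((le_sup_right : zpowers y ≤ _) (mem_zpowers y)) hne, Nat.card_zpowers, hx]
    have hle : zpowers x ⊔ zpowers y ≤ (S : Subgroup G) :=
      sup_le (zpowers_le.2 hxS) (zpowers_le.2 hyS)
    obtain ⟨F, hF, hF3, hFS, hUF, hW⟩ := hprop _ (isKleinFour_of_elemAb he h4 hle)
    rw [subgroupOf_map_subtype, inf_eq_left.2 hle] at hUF
    exact ⟨F, hF, hF3, hUF ((le_sup_left : zpowers x ≤ _) (mem_zpowers x)), hFS, hW⟩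
  refine ⟨wCore F₀, ⟨(wCore_spec hθ hF₀ hF₀3).1, fun x hxS hx => ?_, ?_⟩, fun x hxS hx => ?_⟩
  · obtain ⟨F, hF, hF3, hxF, -, hW⟩ := hmem x hxS hx
    rw [← hW]
    exact (wCore_spec hθ hF hF3).2.2 x hxF fun e => by rw [e, orderOf_one] at hx; omega
  · refine Signalizer.le_normalizer_of_conj_mem fun s hs w hw => ?_
    have hle : wCore F₀ ≤ (wCore F₀).comap (MulAut.conj s).toMonoidHom := by
      refine iSup_le fun a => ?_
      rw [← map_le_iff_le_comap, Signalizer.map_conj_centralizerPPrimeCore]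
      have hord : orderOf (s * a.1 * s⁻¹) = 2 := by
        rw [Involution.orderOf_conj]; exact orderOf_of_mem hF₀ a.2.1 a.2.2
      obtain ⟨F, -, -, hxF, -, hW⟩ := hmem _ (mul_mem (mul_mem hs (hF₀S a.2.1)) (inv_mem hs)) hord
      rw [← hW]
      exact le_iSup_of_le ⟨_, hxF, fun e => by rw [e, orderOf_one] at hord; omega⟩ le_rfl
    exact hle hw
  · obtain ⟨F, hF, hF3, hxF, hFS, -⟩ := hmem x hxS hx
    exact ⟨F, hF, hF3, hxF, hFS⟩

/-- Core killing: constrained involution centralisers and a connected Sylow 2-subgroup. -/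
theorem core_eq_bot
    (hSE : ∀ H : Subgroup G, Cfsg.IsStronglyEmbedded H →
      (Cfsg.oddCore ↥H).map H.subtype ≤ Cfsg.oddCore G)
    (hO : Cfsg.oddCore G = ⊥) (hrank : ¬ Cfsg.PRankLE 2 2 G) (S : Sylow 2 G)
    (hS : Cfsg.IsFourConnected ↥(S : Subgroup G))
    (hcon : ∀ t : G, orderOf t = 2 → Cfsg.IsPConstrained 2 ↥(centralizer ({t} : Set G)))
    (t : G) (ht : orderOf t = 2) : Cfsg.centralizerPPrimeCore 2 t = ⊥ := by
  haveI : Fact (Nat.Prime 2) := ⟨Nat.prime_two⟩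
  have hθ : ∀ F : Subgroup G, Cfsg.IsElementaryAbelian 2 F → 2 ^ 3 ≤ Nat.card F →
      Cfsg.IsSolvableSignalizerFunctor 2 F (fun a => Cfsg.centralizerPPrimeCore 2 a) :=
    fun F hF _ => ⟨⟨fun a _ _ => Signalizer.core_le_centralizer a,
      fun a _ _ => Signalizer.not_dvd_card_core a,
      fun a ha _ b hb _ hx => Signalizer.conj_mem (Signalizer.invariant_core hF.1 ha) hb hx,
      fun a ha _ b hb hb1 => Signalizer.core_inf_centralizer_le_core (hF.2 a ha)
        (Signalizer.commute_of_isMulCommutative hF.1 ha hb) (hcon b (orderOf_of_mem hF hb hb1))⟩,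
      fun a _ _ => OddOrderTheorem.solvable (Nat.not_even_iff_odd.1 fun he =>
        Signalizer.not_dvd_card_core a (even_iff_two_dvd.1 he))⟩
  obtain ⟨F₀, hF₀, hF₀3, hF₀S⟩ := exists_rank_three_sylow hrank S
  obtain ⟨W, hW, hF⟩ := exists_setting hθ hS hF₀ hF₀3 hF₀S
  refine hW.core_eq_bot hSE hO (fun x hxS hx => ?_) t ht
  obtain ⟨F, hFe, hF3, hxF, hFS⟩ := hF x hxS hx
  exact centralizer_le hW hxS hx (hcon x hx) hFe hF3 hxF hFS

end Cfsg.Agent.NonComponent
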