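import Cfsg.Agent.Lib.NonComponent.Connected
import Cfsg.Agent.Lib.OrbitPower.TwoGroup
import Cfsg.Agent.S0111
import Cfsg.Agent.Lib.PGroup.Basic
import Cfsg.Agent.S0112
import Cfsg.Agent.S0113

/-!
# Fusion of involutions in the centraliser of a central involution

`S` a Sylow 2-subgroup of rank at least three, `U` a normal four-group with `z ∈ U` central in `S`
(`NormalFour`), `G` without subgroup of index two.

* `exists_normalFour`
* `NormalFour.exists_conj_good` : each involution of `S` is conjugate under `C(z)` to one lying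
  in an elementary abelian subgroup of order 8 of `S`
-/

set_option autoImplicit false

namespace Cfsg.Agent.NonComponent

open Subgroup CoreKilling
open scoped Pointwise

variable {G : Type*} [Group G] [Finite G]

/-- `x` lies in an elementary abelian subgroup of order 8 of `S`. -/
def Good (S : Sylow 2 G) (x : G) : Prop :=
  ∃ F : Subgroup G, Cfsg.IsElementaryAbelian 2 F ∧ 2 ^ 3 ≤ Nat.card F ∧ x ∈ F ∧ F ≤ (S : Subgroup G)

theorem card_le_four_of_cyclic_index_two {P : Type*} [Group P] [Finite P] {C : Subgroup P}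
    (hC : IsCyclic C) (hidx : C.index ≤ 2) {F : Subgroup P} (hF : Cfsg.IsElementaryAbelian 2 F) :
    Nat.card F ≤ 4 := by
  have h1 : Nat.card ↥(F ⊓ C) ≤ 2 := by
    haveI : IsCyclic ↥(F ⊓ C) :=
      isCyclic_of_injective (Subgroup.inclusion (inf_le_right : F ⊓ C ≤ C)) (inclusion_injective _)
    obtain ⟨g, hg⟩ := IsCyclic.exists_generator (α := ↥(F ⊓ C))
    rw [← orderOf_eq_card_of_forall_mem_zpowers hg]
    exact Nat.le_of_dvd two_pos (orderOf_dvd_of_pow_eq_one (Subtype.ext (hF.2 _ g.2.1)))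
  have h2 : C.relIndex F ≤ 2 := by
    refine (relIndex_le_of_le_right le_top Subgroup.index_ne_zero_of_finite).trans ?_
    rwa [relIndex_top_right]
  have h3 := relIndex_mul_relIndex ⊥ (F ⊓ C) F bot_le inf_le_left
  rw [relIndex_bot_left, relIndex_bot_left, inf_relIndex_left] at h3
  rw [← h3]
  exact le_trans (Nat.mul_le_mul h1 h2) (le_refl 4)

theorem elemAb_subgroupOf {F H : Subgroup G} (hF : Cfsg.IsElementaryAbelian 2 F) :
    Cfsg.IsElementaryAbelian 2 (F.subgroupOf H) :=
  ⟨⟨⟨fun a b => Subtype.ext (Subtype.ext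
    (Signalizer.commute_of_isMulCommutative hF.1 (mem_subgroupOf.1 a.2) (mem_subgroupOf.1 b.2)))⟩⟩,
    fun a ha => Subtype.ext (hF.2 _ (mem_subgroupOf.1 ha))⟩

/-- A normal four-group of a Sylow 2-subgroup with a marked central involution. -/
structure NormalFour (S : Sylow 2 G) (U : Subgroup G) (z : G) : Prop where
  elem : Cfsg.IsElementaryAbelian 2 U
  card : Nat.card U = 4
  le : U ≤ (S : Subgroup G)
  normal : ∀ s ∈ S, ∀ u ∈ U, s * u * s⁻¹ ∈ U
  mem : z ∈ U
  ne : z ≠ 1
  central : ∀ s ∈ S, Commute z s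

variable {S : Sylow 2 G} {U : Subgroup G} {z : G}

theorem exists_normalFour {F : Subgroup G} (hF : Cfsg.IsElementaryAbelian 2 F)
    (hF3 : 2 ^ 3 ≤ Nat.card F) (hFS : F ≤ (S : Subgroup G)) :
    ∃ (U : Subgroup G) (z : G), NormalFour S U z := by
  haveI : Fact (Nat.Prime 2) := ⟨Nat.prime_two⟩
  by_cases hno : OrbitPower.NoFour (S : Subgroup G)
  · exfalso
    have hcard : Nat.card (F.subgroupOf (S : Subgroup G)) = Nat.card F := Cores.card_subgroupOf hFS
    rcases OrbitPower.cyclic_or_index_two S.isPGroup' hno with hcyc | ⟨a, g, m, j, -, -, hidx, -⟩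
    · haveI := hcyc
      have hc : IsCyclic (⊤ : Subgroup (S : Subgroup G)) :=
        isCyclic_of_surjective Subgroup.topEquiv.symm.toMonoidHom Subgroup.topEquiv.symm.surjective
      have := card_le_four_of_cyclic_index_two hc (by simp) (elemAb_subgroupOf (H := (S : Subgroup G)) hF)
      omega
    · have := card_le_four_of_cyclic_index_two (C := zpowers a) inferInstance hidx.le
        (elemAb_subgroupOf (H := (S : Subgroup G)) hF)
      omega
  simp only [OrbitPower.NoFour, not_forall] at hno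
  obtain ⟨E, hEn, hE4, hE2, -⟩ := hno
  haveI := hEn
  haveI : Nontrivial E := Finite.one_lt_card_iff_nontrivial.1 (by omega)
  obtain ⟨⟨e, he⟩, he1, hec⟩ : ∃ e : E, e ≠ 1 ∧ ∀ s : (S : Subgroup G), s * e = e * s := by
    have hne : (E : Subgroup (S : Subgroup G)) ≠ ⊥ := fun h => by
      rw [h, Subgroup.card_bot] at hE4; omega
    haveI : Nontrivial (S : Subgroup G) := ⟨⟨_, _, fun h =>
      (exists_ne (1 : E)).choose_spec (Subtype.ext (h : ((exists_ne (1 : E)).choose : (S : Subgroup G)) = 1))⟩⟩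
    have := PGroup.inf_center_ne_bot S.isPGroup' hne
    obtain ⟨⟨e, heI⟩, he1⟩ := (Subgroup.ne_bot_iff_exists_ne_one.1 this)
    exact ⟨⟨e, heI.1⟩, fun h => he1 (Subtype.ext (congrArg (fun a : E => (a : (S : Subgroup G))) h)),
      fun s => mem_center_iff.1 heI.2 s⟩
  refine ⟨E.map (S : Subgroup G).subtype, (e : G), ⟨⟨?_, ?_⟩, ?_, map_subtype_le E, ?_, ⟨e, he, rfl⟩,
    fun h => he1 (Subtype.ext (Subtype.ext h)), fun s hs => ?_⟩⟩
  · haveI : IsMulCommutative E := ⟨⟨fun a b => mul_comm_of_exponent_two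
      ((Nat.dvd_prime Nat.prime_two).1 (Monoid.exponent_dvd_of_forall_pow_eq_one
        fun g : E => Subtype.ext (hE2 _ g.2)) |>.resolve_left fun h1 => by
          haveI := Monoid.exp_eq_one_iff.1 h1
          exact not_subsingleton E inferInstance) a b⟩⟩
    infer_instance
  · rintro _ ⟨a, ha, rfl⟩
    rw [← map_pow, hE2 a ha, map_one]
  · rw [Cores.card_map_subtype, hE4]
  · rintro s hs _ ⟨a, ha, rfl⟩
    exact ⟨⟨s, hs⟩ * a * ⟨s, hs⟩⁻¹, hEn.conj_mem a ha _, rfl⟩
  · exact (congrArg Subtype.val (hec ⟨s, hs⟩)).symm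

namespace NormalFour

variable (h : NormalFour S U z)

include h

theorem z_mul_z : z * z = 1 := by rw [← pow_two]; exact h.elem.2 z h.mem

theorem comm {a b : G} (ha : a ∈ U) (hb : b ∈ U) : Commute a b :=
  Signalizer.commute_of_isMulCommutative h.elem.1 ha hb

theorem eq_of_mem {u : G} (hu : u ∈ U) (hu1 : u ≠ 1) (huz : u ≠ z) {a : G} (ha : a ∈ U) :
    a = 1 ∨ a = z ∨ a = u ∨ a = u * z := by
  classical
  haveI := Fintype.ofFinite U
  let L : Finset U := {1, ⟨z, h.mem⟩, ⟨u, hu⟩, ⟨u * z, U.mul_mem hu h.mem⟩}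
  have hL : L = Finset.univ := by
    refine Finset.eq_univ_of_card _ ?_
    rw [← Nat.card_eq_fintype_card, h.card]
    have h1 : u * z ≠ 1 := fun e => huz (by
      rw [← inv_eq_of_mul_eq_one_left e, inv_eq_of_mul_eq_one_right h.z_mul_z])
    have h2 : u * z ≠ z := fun e => hu1 (mul_eq_right.1 e)
    have h3 : u * z ≠ u := fun e => h.ne (mul_eq_left.1 e)
    simp only [L]
    rw [Finset.card_insert_of_notMem, Finset.card_insert_of_notMem, Finset.card_pair]
    · exact fun e => h3 (congrArg Subtype.val e).symm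
    · simp only [Finset.mem_insert, Finset.mem_singleton, not_or]
      exact ⟨fun e => huz (congrArg Subtype.val e).symm, fun e => h2 (congrArg Subtype.val e).symm⟩
    · simp only [Finset.mem_insert, Finset.mem_singleton, not_or]
      exact ⟨fun e => h.ne (congrArg Subtype.val e).symm, fun e => hu1 (congrArg Subtype.val e).symm,
        fun e => h1 (congrArg Subtype.val e).symm⟩
  have hm := Finset.mem_univ (⟨a, ha⟩ : U)
  rw [← hL] at hm
  simp only [L, Finset.mem_insert, Finset.mem_singleton] at hm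
  rcases hm with e | e | e | e
  · exact Or.inl (congrArg Subtype.val e)
  · exact Or.inr (Or.inl (congrArg Subtype.val e))
  · exact Or.inr (Or.inr (Or.inl (congrArg Subtype.val e)))
  · exact Or.inr (Or.inr (Or.inr (congrArg Subtype.val e)))

theorem conj_cases {u s : G} (hu : u ∈ U) (hu1 : u ≠ 1) (huz : u ≠ z) (hs : s ∈ S) :
    s * u * s⁻¹ = u ∨ s * u * s⁻¹ = u * z := by
  rcases h.eq_of_mem hu hu1 huz (h.normal s hs u hu) with e | e | e | e
  · exact absurd (conj_eq_one_iff.1 e) hu1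
  · exfalso
    apply huz
    calc u = s⁻¹ * (s * u * s⁻¹) * s := by group
      _ = s⁻¹ * (z * s) := by rw [e, mul_assoc]
      _ = z := by rw [(h.central s hs).eq]; group
  · exact Or.inl e
  · exact Or.inr e

theorem mem_centralizer {u s : G} (hu : u ∈ U) (hu1 : u ≠ 1) (huz : u ≠ z)
    (hs : s ∈ S) (hc : Commute s u) : s ∈ centralizer (U : Set G) := by
  refine mem_centralizer_iff.2 fun a ha => ?_
  rcases h.eq_of_mem hu hu1 huz ha with rfl | rfl | rfl | rfl
  · simp
  · exact (h.central s hs).eq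
  · exact hc.symm.eq
  · exact (hc.mul_right (h.central s hs).symm).symm.eq

theorem exists_u : ∃ u ∈ U, u ≠ 1 ∧ u ≠ z := by
  by_contra hcon
  push Not at hcon
  have : Nat.card U ≤ 2 := by
    refine le_trans (Nat.card_le_card_of_injective (β := ({1, z} : Set G))
      (fun a => ⟨a.1, ?_⟩) fun a b e => Subtype.ext (congrArg Subtype.val e :)) ?_
    · rcases eq_or_ne (a : G) 1 with e | e
      · exact Or.inl e
      · exact Or.inr (hcon a a.2 e)
    · rw [Nat.card_coe_set_eq]
      exact (Set.ncard_insert_le _ _).trans (by rw [Set.ncard_singleton])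
  rw [h.card] at this
  omega

/-- `C(U)` has index at most two in every subgroup of `S`. -/
theorem card_le_two_mul {H : Subgroup G} (hH : H ≤ (S : Subgroup G)) :
    Nat.card H ≤ 2 * Nat.card ↥(H ⊓ centralizer (U : Set G)) := by
  classical
  obtain ⟨u, hu, hu1, huz⟩ := h.exists_u
  by_cases hall : H ≤ centralizer (U : Set G)
  · rw [inf_eq_left.2 hall]; omega
  obtain ⟨a, haH, ha⟩ := SetLike.not_le_iff_exists.1 hall
  have hza : ∀ {s : G}, s ∈ H → ¬ Commute s u → s * u * s⁻¹ = u * z := fun hs hc =>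
    ((h.conj_cases hu hu1 huz (hH hs)).resolve_left fun e => hc (mul_inv_eq_iff_eq_mul.1 e))
  have hau : ¬ Commute a u := fun e => ha (h.mem_centralizer hu hu1 huz (hH haH) e)
  let f : H → ↥(H ⊓ centralizer (U : Set G)) × Bool := fun s =>
    if hs : (s : G) ∈ centralizer (U : Set G) then (⟨s, s.2, hs⟩, false)
    else (⟨a⁻¹ * s, H.mul_mem (inv_mem haH) s.2, by
      refine h.mem_centralizer hu hu1 huz (hH (H.mul_mem (inv_mem haH) s.2))
        (mul_inv_eq_iff_eq_mul.1 ?_)
      have h1 := hza s.2 fun e => hs (h.mem_centralizer hu hu1 huz (hH s.2) e)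
      calc a⁻¹ * s * u * (a⁻¹ * s)⁻¹ = a⁻¹ * ((s : G) * u * (s : G)⁻¹) * a := by group
        _ = a⁻¹ * (a * u * a⁻¹) * a := by rw [h1, hza haH hau]
        _ = u := by group⟩, true)
  have hf : Function.Injective f := by
    intro s t e
    simp only [f] at e
    split_ifs at e
    · exact Subtype.ext (congrArg Subtype.val (congrArg Prod.fst e) :)
    · exact absurd (congrArg Prod.snd e) (by simp)
    · exact absurd (congrArg Prod.snd e) (by simp)
    · exact Subtype.ext (mul_left_cancel (congrArg Subtype.val (congrArg Prod.fst e) :))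
  refine (Nat.card_le_card_of_injective f hf).trans ?_
  rw [Nat.card_prod, Nat.card_eq_fintype_card (α := Bool), Fintype.card_bool, mul_comm]

/-- A four-group containing `z` inside an elementary abelian subgroup of order at least 8 of `C(U)`. -/
theorem good_of_centralizer {x : G} (hxS : x ∈ S) (hx : x ^ 2 = 1)
    (hxU : x ∈ centralizer (U : Set G)) {F₀ : Subgroup G} (hF₀ : Cfsg.IsElementaryAbelian 2 F₀)
    (hF₀3 : 2 ^ 3 ≤ Nat.card F₀) (hF₀S : F₀ ≤ (S : Subgroup G)) : Good S x := by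
  haveI : Fact (Nat.Prime 2) := ⟨Nat.prime_two⟩
  by_cases hxin : x ∈ U
  · -- extend `U` inside `C(U)`
    set D := F₀ ⊓ centralizer (U : Set G) with hD
    have hDe : Cfsg.IsElementaryAbelian 2 D := Signalizer.elemAb_of_le hF₀ inf_le_left
    have he : Cfsg.IsElementaryAbelian 2 (U ⊔ D) := Signalizer.elemAb_sup h.elem hDe
      fun a ha b hb => mem_centralizer_iff.1 hb.2 a ha
    by_cases hDU : D ≤ U
    · refine ⟨F₀, hF₀, hF₀3, ?_, hF₀S⟩
      have h4 : Nat.card U ≤ Nat.card D := by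
        have := h.card_le_two_mul hF₀S
        rw [← hD] at this
        rw [h.card]; omega
      exact (inf_le_left : D ≤ F₀) ((eq_of_le_of_card_ge hDU h4).ge hxin)
    obtain ⟨d, hd, hdU⟩ := SetLike.not_le_iff_exists.1 hDU
    refine ⟨U ⊔ D, he, ?_, le_sup_left (b := D) hxin,
      sup_le h.le (inf_le_left.trans hF₀S)⟩
    have h1 := Signalizer.card_sup_zpowers he (le_sup_left : U ≤ U ⊔ D)
      ((le_sup_right : D ≤ U ⊔ D) hd) hdU
    have h2 : U ⊔ zpowers d ≤ U ⊔ D := sup_le_sup_left (zpowers_le.2 hd) U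
    have h3 := card_le_of_le h2
    rw [h1, h.card] at h3
    omega
  have he : Cfsg.IsElementaryAbelian 2 (U ⊔ zpowers x) := Signalizer.elemAb_sup h.elem
    (isElementaryAbelian_zpowers hx) fun a ha b hb => by
      obtain ⟨i, rfl⟩ := mem_zpowers_iff.1 hb
      exact ((show Commute a x from mem_centralizer_iff.1 hxU a ha).zpow_right i).eq
  refine ⟨U ⊔ zpowers x, he, ?_, le_sup_right (a := U) (mem_zpowers x),
    sup_le h.le (zpowers_le.2 hxS)⟩
  rw [Signalizer.card_sup_zpowers he le_sup_left (le_sup_right (a := U) (mem_zpowers x)) hxin, h.card]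
  norm_num

/-- An involution of `S` with Sylow centraliser in `C(z)` and in no elementary abelian group of
order 8 of `S` cannot exist. -/
theorem good_of_sylow_centralizer (hO2 : ∀ N : Subgroup G, N.Normal → N.index ≠ 2)
    {F₀ : Subgroup G} (hF₀ : Cfsg.IsElementaryAbelian 2 F₀) (hF₀3 : 2 ^ 3 ≤ Nat.card F₀)
    (hF₀S : F₀ ≤ (S : Subgroup G)) {x : G} (hxS : x ∈ S) (hx : orderOf x = 2)
    (hmax : ∀ T : Subgroup G, IsPGroup 2 T →
      T ≤ centralizer ({x} : Set G) → T ≤ centralizer ({z} : Set G) →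
      (S : Subgroup G) ⊓ centralizer ({x} : Set G) ≤ T →
      T = (S : Subgroup G) ⊓ centralizer ({x} : Set G)) : Good S x := by
  haveI : Fact (Nat.Prime 2) := ⟨Nat.prime_two⟩
  by_contra hbad
  have hx2 : x ^ 2 = 1 := hx ▸ pow_orderOf_eq_one x
  have hxx : x * x = 1 := by rw [← pow_two]; exact hx2
  have hx1 : x ≠ 1 := fun e => by rw [e, orderOf_one] at hx; omega
  have hxU : x ∉ centralizer (U : Set G) := fun e =>
    hbad (h.good_of_centralizer hxS hx2 e hF₀ hF₀3 hF₀S)
  obtain ⟨u, hu, hu1, huz⟩ := h.exists_u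
  have hxu : x * u * x⁻¹ = u * z := (h.conj_cases hu hu1 huz hxS).resolve_left fun e =>
    hxU (h.mem_centralizer hu hu1 huz hxS (mul_inv_eq_iff_eq_mul.1 e))
  have huu : u * u = 1 := by rw [← pow_two]; exact h.elem.2 u hu
  have hzx := h.central x hxS
  have hxz : x ≠ z := fun e => hxU (e ▸ mem_centralizer_iff.2 fun a ha => (h.comm ha h.mem).eq)
  set D := (S : Subgroup G) ⊓ centralizer ({x} : Set G) with hD
  have hxD : x ∈ D := ⟨hxS, mem_centralizer_singleton_iff.2 rfl⟩
  have hzD : z ∈ D := ⟨h.le h.mem, mem_centralizer_singleton_iff.2 hzx.eq⟩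
  -- the involutions of `D`
  have hinv : ∀ e ∈ D, e ^ 2 = 1 → e = 1 ∨ e = z ∨ e = x ∨ e = x * z := by
    intro e he he2
    by_contra hc
    push Not at hc
    obtain ⟨he1, hez, hex, hexz⟩ := hc
    have hex' : Commute e x := mem_centralizer_singleton_iff.1 he.2
    have hA : Cfsg.IsElementaryAbelian 2 (zpowers x ⊔ zpowers z) := by
      refine Signalizer.elemAb_sup (isElementaryAbelian_zpowers hx2)
        (isElementaryAbelian_zpowers (h.elem.2 z h.mem)) fun a ha b hb => ?_
      obtain ⟨i, rfl⟩ := mem_zpowers_iff.1 ha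
      obtain ⟨j, rfl⟩ := mem_zpowers_iff.1 hb
      exact (hzx.symm.zpow_zpow i j).eq
    have hAD : zpowers x ⊔ zpowers z ≤ D := sup_le (zpowers_le.2 hxD) (zpowers_le.2 hzD)
    have hB : Cfsg.IsElementaryAbelian 2 ((zpowers x ⊔ zpowers z) ⊔ zpowers e) := by
      refine Signalizer.elemAb_sup hA (isElementaryAbelian_zpowers he2) fun a ha b hb => ?_
      obtain ⟨j, rfl⟩ := mem_zpowers_iff.1 hb
      have h1 : zpowers x ⊔ zpowers z ≤ centralizer ({e} : Set G) :=
        sup_le (zpowers_le.2 (mem_centralizer_singleton_iff.2 hex'.symm.eq))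
          (zpowers_le.2 (mem_centralizer_singleton_iff.2 (h.central e he.1).eq))
      exact ((show Commute a e from mem_centralizer_singleton_iff.1 (h1 ha)).zpow_right j).eq
    have hne : e ∉ zpowers x ⊔ zpowers z := by
      intro hm
      have h2 : zpowers x ⊔ zpowers z ≤
          { carrier := {a | a = 1 ∨ a = z ∨ a = x ∨ a = x * z}
            one_mem' := Or.inl rfl
            mul_mem' := by
              have e1 : z * (x * z) = x := by rw [← mul_assoc, hzx.eq, mul_assoc, h.z_mul_z, mul_one]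
              have e2 : x * z * z = x := by rw [mul_assoc, h.z_mul_z, mul_one]
              have e3 : x * (x * z) = z := by rw [← mul_assoc, hxx, one_mul]
              have e4 : x * z * x = z := by rw [mul_assoc, hzx.eq, ← mul_assoc, hxx, one_mul]
              have e5 : x * z * (x * z) = 1 := by rw [← mul_assoc, e4, h.z_mul_z]
              have e6 : z * x = x * z := hzx.eq
              rintro a b (rfl | rfl | rfl | rfl) (rfl | rfl | rfl | rfl) <;>
                simp [h.z_mul_z, hxx, e1, e2, e3, e4, e5, e6]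
            inv_mem' := by
              rintro a (rfl | rfl | rfl | rfl)
              · exact Or.inl inv_one
              · exact Or.inr (Or.inl (inv_eq_of_mul_eq_one_right h.z_mul_z))
              · exact Or.inr (Or.inr (Or.inl (inv_eq_of_mul_eq_one_right hxx)))
              · exact Or.inr (Or.inr (Or.inr (inv_eq_of_mul_eq_one_right (by
                  rw [← mul_assoc, mul_assoc x z x, hzx.eq, ← mul_assoc, hxx, one_mul, h.z_mul_z]))))
            } := sup_le (zpowers_le.2 (Or.inr (Or.inr (Or.inl rfl)))) (zpowers_le.2 (Or.inr (Or.inl rfl)))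
      rcases h2 hm with r | r | r | r
      · exact he1 r
      · exact hez r
      · exact hex r
      · exact hexz r
    refine hbad ⟨_, hB, ?_, (le_sup_left.trans le_sup_left : zpowers x ≤ _) (mem_zpowers x),
      (sup_le hAD (zpowers_le.2 he)).trans inf_le_left⟩
    have hzn : z ∉ zpowers x := fun hm => by
      obtain ⟨i, hi⟩ := mem_zpowers_iff.1 hm
      rcases Int.emod_two_eq_zero_or_one i with hi2 | hi2 <;>
        rw [← zpow_mod_orderOf, hx, Nat.cast_ofNat, hi2] at hi
      · exact h.ne (by rw [← hi, zpow_zero])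
      · exact hxz (by rw [← hi, zpow_one])
    rw [Signalizer.card_sup_zpowers hB le_sup_left
      ((le_sup_right : zpowers e ≤ _) (mem_zpowers e)) hne,
      Signalizer.card_sup_zpowers hA le_sup_left ((le_sup_right : zpowers z ≤ _) (mem_zpowers z)) hzn,
      Nat.card_zpowers, hx]
    norm_num
  -- `x` is fused into `C(U)`
  set Q := (S : Subgroup G) ⊓ centralizer (U : Set G) with hQ
  have hQidx : Q.relIndex (S : Subgroup G) = 2 := by
    have h1 := relIndex_mul_relIndex ⊥ Q (S : Subgroup G) bot_le inf_le_left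
    rw [relIndex_bot_left, relIndex_bot_left] at h1
    have h2 := h.card_le_two_mul (le_refl (S : Subgroup G))
    rw [← hQ, ← h1, mul_comm 2] at h2
    have h3 := Nat.le_of_mul_le_mul_left h2 Nat.card_pos
    have h4 : Q.relIndex (S : Subgroup G) ≠ 1 := fun e => hxU (relIndex_eq_one.1 e hxS).2
    have h5 : Q.relIndex (S : Subgroup G) ≠ 0 := Subgroup.index_ne_zero_of_finite
    omega
  rcases S0111.result S Q inf_le_left hQidx x hx hxS (fun e => hxU e.2) with ⟨N, hN, hN2, -⟩ | ⟨g, hg⟩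
  · exact hO2 N hN hN2
  obtain ⟨F, hF, hF3, hgF, -⟩ := h.good_of_centralizer hg.1
    (by rw [conj_pow, hx2, mul_one, mul_inv_cancel]) hg.2 hF₀ hF₀3 hF₀S
  set C := centralizer ({x} : Set G) with hC
  have hDp : IsPGroup 2 D := S.isPGroup'.to_le inf_le_left
  obtain ⟨P, hP⟩ := (hDp.comap_of_injective C.subtype C.subtype_injective).exists_le_sylow
  set P' := (P : Subgroup C).map C.subtype with hP'
  have hDP : D ≤ P' := fun d hd =>
    ⟨⟨d, hd.2⟩, hP (show (⟨d, hd.2⟩ : C) ∈ D.comap C.subtype from hd), rfl⟩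
  have hP'p : IsPGroup 2 P' := P.isPGroup'.map _
  have hbig : ∀ B : Subgroup G, Cfsg.IsElementaryAbelian 2 B → B ≤ D → Nat.card B ≤ 4 := by
    intro B hB hBD
    classical
    refine le_trans (Nat.card_le_card_of_injective
      (β := (({1, z, x, x * z} : Finset G) : Set G)) (fun b => ⟨b.1, ?_⟩)
      fun b c e => Subtype.ext (congrArg Subtype.val e :)) ?_
    · rcases hinv b (hBD b.2) (hB.2 b b.2) with r | r | r | r <;> simp [r]
    · rw [Nat.card_coe_set_eq, Set.ncard_coe_finset]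
      exact Finset.card_le_four
  have hDlt : D ≠ P' := by
    intro e
    have hFx : MulAut.conj g⁻¹ • F ≤ C := by
      rintro _ ⟨f, hf, rfl⟩
      have h1 : Commute f (g * x * g⁻¹) := Signalizer.commute_of_isMulCommutative hF.1 hf hgF
      have h2 := h1.map (MulAut.conj g⁻¹).toMonoidHom
      simp only [MulEquiv.coe_toMonoidHom, MulAut.conj_apply, inv_inv] at h2
      rw [show g⁻¹ * (g * x * g⁻¹) * g = x by group] at h2
      refine mem_centralizer_singleton_iff.2 ?_
      show g⁻¹ * f * g⁻¹⁻¹ * x = x * (g⁻¹ * f * g⁻¹⁻¹)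
      rw [inv_inv]; exact h2.eq
    have hFe : Cfsg.IsElementaryAbelian 2 (MulAut.conj g⁻¹ • F) := by
      refine ⟨⟨⟨?_⟩⟩, ?_⟩
      · rintro ⟨_, a, ha, rfl⟩ ⟨_, b, hb, rfl⟩
        refine Subtype.ext ?_
        exact ((show Commute a b from Signalizer.commute_of_isMulCommutative hF.1 ha hb).map
          (MulAut.conj g⁻¹).toMonoidHom).eq
      · rintro _ ⟨a, ha, rfl⟩
        exact (map_pow _ a 2).symm.trans ((congrArg _ (hF.2 a ha)).trans (map_one _))
    obtain ⟨P₁, hP₁⟩ := ((Signalizer.isPGroup_of_elemAb hFe).comap_of_injective C.subtype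
      C.subtype_injective).exists_le_sylow
    obtain ⟨c, hc⟩ := MulAction.exists_smul_eq C P₁ P
    have hle : MulAut.conj (c : G) • (MulAut.conj g⁻¹ • F) ≤ P' := by
      rintro _ ⟨f, hf, rfl⟩
      refine ⟨c * ⟨f, hFx hf⟩ * c⁻¹, ?_, rfl⟩
      rw [← hc]
      exact ⟨⟨f, hFx hf⟩, hP₁ (show (⟨f, hFx hf⟩ : C) ∈ (MulAut.conj g⁻¹ • F).comap C.subtype from hf), rfl⟩
    have h3 := hbig _ (by
      refine ⟨⟨⟨?_⟩⟩, ?_⟩
      · rintro ⟨_, a, ha, rfl⟩ ⟨_, b, hb, rfl⟩
        refine Subtype.ext ?_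
        exact ((show Commute a b from Signalizer.commute_of_isMulCommutative hFe.1 ha hb).map
          (MulAut.conj (c : G)).toMonoidHom).eq
      · rintro _ ⟨a, ha, rfl⟩
        exact (map_pow _ a 2).symm.trans ((congrArg _ (hFe.2 a ha)).trans (map_one _))) (e ▸ hle)
    rw [Solvable.card_conj, Solvable.card_conj] at h3
    omega
  haveI : Group.IsNilpotent P' := hP'p.isNilpotent
  have hnorm : D.subgroupOf P' < normalizer (D.subgroupOf P' : Set P') :=
    Group.normalizerCondition_of_isNilpotent _ (lt_top_iff_ne_top.2 fun e =>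
      hDlt (le_antisymm hDP (subgroupOf_eq_top.1 e)))
  obtain ⟨⟨n, hnP⟩, hnN, hnD⟩ := SetLike.exists_of_lt hnorm
  have hnDG : ∀ d ∈ D, n * d * n⁻¹ ∈ D := fun d hd => by
    exact (mem_normalizer_iff.1 hnN ⟨d, hDP hd⟩).1 hd
  have hnx : Commute n x := by
    obtain ⟨⟨c, hcC⟩, -, rfl⟩ := hnP
    exact mem_centralizer_singleton_iff.1 hcC
  -- `n` swaps `z` and `xz`
  have hnz : n * z * n⁻¹ = x * z := by
    rcases hinv _ (hnDG z hzD) (by rw [conj_pow, h.elem.2 z h.mem, mul_one, mul_inv_cancel])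
      with e | e | e | e
    · exact absurd (conj_eq_one_iff.1 e) h.ne
    · exfalso
      have hT : zpowers n ⊔ D ≤ P' := sup_le (zpowers_le.2 hnP) hDP
      have hTx : zpowers n ⊔ D ≤ centralizer ({x} : Set G) :=
        sup_le (zpowers_le.2 (mem_centralizer_singleton_iff.2 hnx.eq)) inf_le_right
      have hTz : zpowers n ⊔ D ≤ centralizer ({z} : Set G) :=
        sup_le (zpowers_le.2 (mem_centralizer_singleton_iff.2 (mul_inv_eq_iff_eq_mul.1 e)))
          (fun d hd => mem_centralizer_singleton_iff.2 (h.central d hd.1).symm.eq)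
      refine hnD ?_
      show n ∈ D
      rw [← hmax _ (hP'p.to_le hT) hTx hTz le_sup_right]
      exact (le_sup_left : zpowers n ≤ _) (mem_zpowers n)
    · exfalso
      apply hxz
      calc x = n⁻¹ * (x * n) := by rw [← hnx.eq]; group
        _ = n⁻¹ * (n * z * n⁻¹ * n) := by rw [e]
        _ = z := by group
    · exact e
  have hzu : Commute z u := h.comm h.mem hu
  have hu_x : u * x * u⁻¹ = x * z := by
    have h1 : x * u = u * z * x := mul_inv_eq_iff_eq_mul.1 hxu
    rw [inv_eq_of_mul_eq_one_right huu]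
    calc u * x * u = u * (x * u) := mul_assoc _ _ _
      _ = u * u * z * x := by rw [h1]; group
      _ = x * z := by rw [huu, one_mul, hzx.eq]
  have hun : ∀ d ∈ D, u * d * u⁻¹ ∈ D := fun d hd => by
    refine ⟨(S : Subgroup G).mul_mem ((S : Subgroup G).mul_mem (h.le hu) hd.1)
      ((S : Subgroup G).inv_mem (h.le hu)), mem_centralizer_singleton_iff.2 ?_⟩
    have h1 : Commute d x := mem_centralizer_singleton_iff.1 hd.2
    have h2 := (h1.mul_right (h.central d hd.1).symm).map (MulAut.conj u).toMonoidHom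
    simp only [MulEquiv.coe_toMonoidHom, MulAut.conj_apply] at h2
    rw [show u * (x * z) * u⁻¹ = u * x * u⁻¹ * (u * z * u⁻¹) by group, hu_x,
      show u * z * u⁻¹ = z by rw [← hzu.eq, mul_inv_cancel_right], mul_assoc x z z, h.z_mul_z, mul_one] at h2
    exact h2.eq
  have hnxz : n * (x * z) * n⁻¹ = z := by
    rw [show n * (x * z) * n⁻¹ = n * x * n⁻¹ * (n * z * n⁻¹) by group, hnz,
      mul_inv_eq_iff_eq_mul.2 hnx.eq, ← mul_assoc, hxx, one_mul]
  have huxz : u * (x * z) * u⁻¹ = x := by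
    rw [show u * (x * z) * u⁻¹ = u * x * u⁻¹ * (u * z * u⁻¹) by group, hu_x,
      show u * z * u⁻¹ = z by rw [← hzu.eq, mul_inv_cancel_right], mul_assoc, h.z_mul_z, mul_one]
  -- squares
  have hsq : ∀ d ∈ D, d ^ 2 = 1 := by
    intro d hd
    obtain ⟨k, hk⟩ := hDp ⟨d, hd⟩
    have hk' : d ^ 2 ^ k = 1 := congrArg Subtype.val hk
    by_contra hd2
    obtain ⟨e, he, hee⟩ : ∃ e ∈ D, (e ^ 2) ^ 2 = 1 ∧ e ^ 2 ≠ 1 := by
      clear hk
      induction k generalizing d with
      | zero => rw [pow_zero, pow_one] at hk'; exact absurd (by rw [hk', one_pow]) hd2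
      | succ k ih =>
        by_cases h4 : (d ^ 2) ^ 2 = 1
        · exact ⟨d, hd, h4, hd2⟩
        · exact ih (d ^ 2) (pow_mem hd 2) (by rw [← pow_mul, ← pow_succ']; exact hk') h4
    have hxsq : ∃ d' ∈ D, d' ^ 2 = x := by
      rcases hinv _ (pow_mem he 2) hee.1 with r | r | r | r
      · exact absurd r hee.2
      · refine ⟨u * (n * e * n⁻¹) * u⁻¹, hun _ (hnDG _ he), ?_⟩
        rw [conj_pow, conj_pow, r, hnz, huxz]
      · exact ⟨e, he, r⟩
      · refine ⟨u * e * u⁻¹, hun _ he, ?_⟩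
        rw [conj_pow, r, huxz]
    obtain ⟨d', hd', hdx⟩ := hxsq
    apply hxU
    refine h.mem_centralizer hu hu1 huz hxS ?_
    rw [← hdx]
    refine mul_inv_eq_iff_eq_mul.1 ?_
    rw [show d' ^ 2 * u * (d' ^ 2)⁻¹ = d' * (d' * u * d'⁻¹) * d'⁻¹ by rw [pow_two, mul_inv_rev]; group]
    rcases h.conj_cases hu hu1 huz hd'.1 with r | r
    · rw [r, r]
    · rw [r, show d' * (u * z) * d'⁻¹ = d' * u * d'⁻¹ * (d' * z * d'⁻¹) by group, r,
        ← (h.central d' hd'.1).eq, mul_inv_cancel_right, mul_assoc, h.z_mul_z, mul_one]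
  -- so `C_S(x)` is a four-group and `S` has rank two
  have hDe : Cfsg.IsElementaryAbelian 2 D := ⟨⟨⟨fun a b => Subtype.ext (show (a : G) * b = b * a by
    have h1 := hsq _ (D.mul_mem a.2 b.2)
    have ha := hsq _ a.2
    have hb := hsq _ b.2
    rw [pow_two] at h1 ha hb
    calc (a : G) * b = ((a : G) * b)⁻¹ := (inv_eq_of_mul_eq_one_right h1).symm
      _ = (b : G)⁻¹ * (a : G)⁻¹ := mul_inv_rev _ _
      _ = b * a := by rw [inv_eq_of_mul_eq_one_right ha, inv_eq_of_mul_eq_one_right hb])⟩⟩, hsq⟩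
  have hxz4 : zpowers x ⊔ zpowers z ≤ D := sup_le (zpowers_le.2 hxD) (zpowers_le.2 hzD)
  have hD4 : Nat.card D = 4 := by
    refine le_antisymm (hbig D hDe le_rfl) ?_
    classical
    have h1 : x * z ≠ 1 := fun e => hxz (by
      rw [← inv_eq_of_mul_eq_one_left e, inv_eq_of_mul_eq_one_right h.z_mul_z])
    have : Nat.card (({1, z, x, x * z} : Finset G) : Set G) ≤ Nat.card D :=
      Nat.card_le_card_of_injective (fun a => ⟨a.1, by
        have := a.2
        simp only [Finset.coe_insert, Finset.coe_singleton, Set.mem_insert_iff, Set.mem_singleton_iff] at this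
        rcases this with r | r | r | r <;> rw [r]
        exacts [D.one_mem, hzD, hxD, D.mul_mem hxD hzD]⟩) fun a b e => Subtype.ext (congrArg Subtype.val e :)
    rw [Nat.card_coe_set_eq, Set.ncard_coe_finset] at this
    refine le_trans (le_of_eq ?_) this
    rw [Finset.card_insert_of_notMem, Finset.card_insert_of_notMem, Finset.card_pair]
    · exact fun e => h.ne (mul_eq_left.1 e.symm)
    · simp only [Finset.mem_insert, Finset.mem_singleton, not_or]
      exact ⟨Ne.symm hxz, fun e => hx1 (mul_eq_right.1 e.symm)⟩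
    · simp only [Finset.mem_insert, Finset.mem_singleton, not_or]
      exact ⟨Ne.symm h.ne, Ne.symm hx1, Ne.symm h1⟩
  set A := D.subgroupOf (S : Subgroup G) with hA
  have hA4 : Nat.card A = 2 ^ 2 := by rw [Cores.card_subgroupOf inf_le_left, hD4]; norm_num
  have hCA : centralizer (A : Set (S : Subgroup G)) = A := by
    refine le_antisymm ?_ ?_
    · intro s hs
      exact ⟨s.2, mem_centralizer_singleton_iff.2
        (congrArg Subtype.val (mem_centralizer_iff.1 hs ⟨x, hxS⟩ hxD)).symm⟩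
    · intro a ha
      exact mem_centralizer_iff.2 fun b hb =>
        Subtype.ext (Signalizer.commute_of_isMulCommutative hDe.1 hb ha)
  obtain ⟨m, hm⟩ := IsPGroup.iff_card.1 S.isPGroup'
  have h8 : 2 ^ 3 ≤ Nat.card (S : Subgroup G) := hF₀3.trans (card_le_of_le hF₀S)
  have hm3 : 3 ≤ m := by
    rw [hm] at h8
    exact (Nat.pow_le_pow_iff_right one_lt_two).1 h8
  obtain ⟨Cy, hCy, hCy2⟩ := S0113.result m hm3 hm (S0112.result m hm A hA4 hCA)
  have := card_le_four_of_cyclic_index_two hCy hCy2.le (elemAb_subgroupOf (H := (S : Subgroup G)) hF₀)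
  rw [Cores.card_subgroupOf hF₀S] at this
  omega

/-- Each involution of `S` is conjugate under `C(z)` to a good one. -/
theorem exists_conj_good (hO2 : ∀ N : Subgroup G, N.Normal → N.index ≠ 2)
    {F₀ : Subgroup G} (hF₀ : Cfsg.IsElementaryAbelian 2 F₀) (hF₀3 : 2 ^ 3 ≤ Nat.card F₀)
    (hF₀S : F₀ ≤ (S : Subgroup G)) {x : G} (hxS : x ∈ S) (hx : orderOf x = 2) :
    ∃ c ∈ centralizer ({z} : Set G), c * x * c⁻¹ ∈ S ∧ Good S (c * x * c⁻¹) := by
  haveI : Fact (Nat.Prime 2) := ⟨Nat.prime_two⟩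
  set Cz := centralizer ({z} : Set G) with hCz
  set C := Cz ⊓ centralizer ({x} : Set G) with hC
  have hSC : (S : Subgroup G) ≤ Cz := fun s hs =>
    mem_centralizer_singleton_iff.2 (h.central s hs).symm.eq
  obtain ⟨P, hP⟩ := ((S.isPGroup'.to_le (inf_le_left : (S : Subgroup G) ⊓ centralizer ({x} : Set G) ≤ _)).comap_of_injective
    C.subtype C.subtype_injective).exists_le_sylow
  set P' := (P : Subgroup C).map C.subtype with hP'
  have hP'C : P' ≤ C := map_subtype_le _
  -- conjugate `P` into `S` inside `C(z)`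
  obtain ⟨R, hR⟩ := ((P.isPGroup'.map C.subtype).comap_of_injective Cz.subtype
    Cz.subtype_injective).exists_le_sylow
  let S' : Sylow 2 Cz := S.subtype hSC
  obtain ⟨c, hc⟩ := MulAction.exists_smul_eq Cz R S'
  have hPS : ∀ a ∈ P', (c : G) * a * (c : G)⁻¹ ∈ S := fun a ha => by
    have h1 : (⟨a, (hP'C ha).1⟩ : Cz) ∈ R :=
      hR (show (⟨a, (hP'C ha).1⟩ : Cz) ∈ P'.comap Cz.subtype from ha)
    have h2 : c * ⟨a, (hP'C ha).1⟩ * c⁻¹ ∈ S' := hc ▸ ⟨_, h1, rfl⟩
    exact h2
  have hxC : x ∈ C := ⟨hSC hxS, mem_centralizer_singleton_iff.2 rfl⟩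
  have hxP : x ∈ P' := ⟨⟨x, hxC⟩,
    hP (show (⟨x, hxC⟩ : C) ∈ ((S : Subgroup G) ⊓ centralizer ({x} : Set G)).comap C.subtype from
      ⟨hxS, mem_centralizer_singleton_iff.2 rfl⟩), rfl⟩
  refine ⟨c, c.2, hPS x hxP, h.good_of_sylow_centralizer hO2 hF₀ hF₀3 hF₀S (hPS x hxP)
    (by rw [Involution.orderOf_conj, hx]) fun T hT hTx hTz hle => ?_⟩
  refine le_antisymm (fun t ht => ⟨?_, hTx ht⟩) hle
  -- `c⁻¹ T c` is a 2-subgroup of `C` containing `P`
  have hcz : Commute (c : G) z := mem_centralizer_singleton_iff.1 c.2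
  set T' := MulAut.conj (c : G)⁻¹ • T with hT'
  have hT'C : T' ≤ C := by
    rintro _ ⟨a, ha, rfl⟩
    have h1 : Commute a z := mem_centralizer_singleton_iff.1 (hTz ha)
    have h2 : Commute a ((c : G) * x * (c : G)⁻¹) := mem_centralizer_singleton_iff.1 (hTx ha)
    have k1 := h1.map (MulAut.conj (c : G)⁻¹).toMonoidHom
    have k2 := h2.map (MulAut.conj (c : G)⁻¹).toMonoidHom
    simp only [MulEquiv.coe_toMonoidHom, MulAut.conj_apply, inv_inv] at k1 k2
    rw [show (c : G)⁻¹ * z * c = z by rw [mul_assoc, ← hcz.eq]; group] at k1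
    rw [show (c : G)⁻¹ * ((c : G) * x * (c : G)⁻¹) * c = x by group] at k2
    refine ⟨mem_centralizer_singleton_iff.2 ?_, mem_centralizer_singleton_iff.2 ?_⟩
    · show (c : G)⁻¹ * a * (c : G)⁻¹⁻¹ * z = z * ((c : G)⁻¹ * a * (c : G)⁻¹⁻¹)
      rw [inv_inv]; exact k1.eq
    · show (c : G)⁻¹ * a * (c : G)⁻¹⁻¹ * x = x * ((c : G)⁻¹ * a * (c : G)⁻¹⁻¹)
      rw [inv_inv]; exact k2.eq
  have hPle : (P : Subgroup C) ≤ T'.subgroupOf C := by
    intro a ha
    have haP : (a : G) ∈ P' := ⟨a, ha, rfl⟩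
    refine ⟨(c : G) * a * (c : G)⁻¹, hle ⟨hPS a haP, mem_centralizer_singleton_iff.2 ?_⟩, ?_⟩
    · exact ((show Commute (a : G) x from mem_centralizer_singleton_iff.1 a.2.2).map
        (MulAut.conj (c : G)).toMonoidHom).eq
    · show (c : G)⁻¹ * ((c : G) * a * (c : G)⁻¹) * (c : G)⁻¹⁻¹ = a
      group
  have heq := P.3 ((hT.map (MulAut.conj (c : G)⁻¹).toMonoidHom).comap_subtype) hPle
  have htT' : (c : G)⁻¹ * t * c ∈ T' := ⟨t, ht, by simp⟩
  have htP : (⟨_, hT'C htT'⟩ : C) ∈ (P : Subgroup C) :=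
    heq.le (show (⟨_, hT'C htT'⟩ : C) ∈ T'.subgroupOf C from htT')
  have h9 := hPS _ ⟨_, htP, rfl⟩
  simpa [mul_assoc] using h9

end NormalFour

end Cfsg.Agent.NonComponent
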