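import Cfsg.Agent.Lib.NonComponent.InvertedCore
import Cfsg.Agent.Lib.NonComponent.CentralFusion
import Cfsg.Agent.Lib.StrongEmb.Basic

/-!
# Core killing for constrained centralisers and an arbitrary Sylow 2-subgroup

`core_eq_bot_of_no_index_two` : `O(G) = 1`, no normal subgroup of index 2, 2-rank at least three,
2-constrained involution centralisers and `O(H) ≤ O(G)` for strongly embedded `H` imply that the
cores of all involution centralisers are trivial.
-/

set_option autoImplicit false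

namespace Cfsg.Agent.NonComponent

open Subgroup CoreKilling
open scoped Pointwise

variable {G : Type*} [Group G] [Finite G]

theorem elemAb_conj {F : Subgroup G} (hF : Cfsg.IsElementaryAbelian 2 F) (g : G) :
    Cfsg.IsElementaryAbelian 2 (MulAut.conj g • F) := by
  refine ⟨⟨⟨?_⟩⟩, ?_⟩
  · rintro ⟨_, a, ha, rfl⟩ ⟨_, b, hb, rfl⟩
    refine Subtype.ext ?_
    exact ((show Commute a b from Signalizer.commute_of_isMulCommutative hF.1 ha hb).map
      (MulAut.conj g).toMonoidHom).eq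
  · rintro _ ⟨a, ha, rfl⟩
    exact (map_pow _ a 2).symm.trans ((congrArg _ (hF.2 a ha)).trans (map_one _))

omit [Finite G] in
theorem conj_wCore_le (F : Subgroup G) (g : G) :
    MulAut.conj g • wCore F ≤ wCore (MulAut.conj g • F) := by
  change (wCore F).map (MulAut.conj g).toMonoidHom ≤ _
  rw [map_le_iff_le_comap]
  refine iSup_le fun a => ?_
  rw [← map_le_iff_le_comap, Signalizer.map_conj_centralizerPPrimeCore]
  exact le_iSup_of_le ⟨g * a * g⁻¹, ⟨a, a.2.1, rfl⟩, fun e => a.2.2 (conj_eq_one_iff.1 e)⟩ le_rfl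

/-- `g` normalises the common join of cores when it moves a four-subgroup of a rank three
subgroup of `S` into another one. -/
theorem mem_normalizer_of_fours
    (hθ : ∀ F : Subgroup G, Cfsg.IsElementaryAbelian 2 F → 2 ^ 3 ≤ Nat.card F →
      Cfsg.IsSolvableSignalizerFunctor 2 F (fun a => Cfsg.centralizerPPrimeCore 2 a))
    {S : Sylow 2 G} {W : Subgroup G}
    (hW : ∀ F : Subgroup G, Cfsg.IsElementaryAbelian 2 F → 2 ^ 3 ≤ Nat.card F →
      F ≤ (S : Subgroup G) → wCore F = W)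
    {E F F' : Subgroup G} {g : G} (hE : IsFour E) (hF : Cfsg.IsElementaryAbelian 2 F)
    (hF3 : 2 ^ 3 ≤ Nat.card F) (hFS : F ≤ (S : Subgroup G)) (hEF : E ≤ F)
    (hF' : Cfsg.IsElementaryAbelian 2 F') (hF'3 : 2 ^ 3 ≤ Nat.card F')
    (hF'S : F' ≤ (S : Subgroup G)) (hgE : MulAut.conj g • E ≤ F') :
    g ∈ normalizer (W : Set G) := by
  refine Solvable.mem_normalizer_iff_conj.2 (eq_of_le_of_card_ge ?_ (Solvable.card_conj g W).ge)
  have h2 : wCore (MulAut.conj g • F) = W :=
    (wCore_eq hθ (hE.conj g) (elemAb_conj hF g) (by rw [Solvable.card_conj]; exact hF3)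
      (Solvable.conj_mono g hEF) hF' hF'3 hgE).trans (hW F' hF' hF'3 hF'S)
  calc MulAut.conj g • W = MulAut.conj g • wCore F := by rw [hW F hF hF3 hFS]
    _ ≤ wCore (MulAut.conj g • F) := conj_wCore_le F g
    _ = W := h2

section Constrained

variable {C : Type*} [Group C] [Finite C]

/-- The preimage of `O_2` of the core quotient is the product of the core and a Sylow intersection. -/
theorem le_core_sup_inf (T : Sylow 2 C) (L : Subgroup C) [hLn : L.Normal]
    (hOL : Cfsg.pPrimeCore 2 C ≤ L)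
    (hL : ∃ m, (Cfsg.pPrimeCore 2 C).relIndex L = 2 ^ m) :
    L ≤ Cfsg.pPrimeCore 2 C ⊔ ((T : Subgroup C) ⊓ L) := by
  haveI : Fact (Nat.Prime 2) := ⟨Nat.prime_two⟩
  set O := Cfsg.pPrimeCore 2 C
  obtain ⟨m, hm⟩ := hL
  have hle : O ⊔ ((T : Subgroup C) ⊓ L) ≤ L := sup_le hOL inf_le_right
  have hd1 : (O ⊔ ((T : Subgroup C) ⊓ L)).relIndex L ∣ 2 ^ m :=
    hm ▸ relIndex_dvd_of_le_left L le_sup_left
  have hd2 : (O ⊔ ((T : Subgroup C) ⊓ L)).relIndex L ∣ (T : Subgroup C).relIndex L := by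
    rw [← inf_relIndex_right (T : Subgroup C) L]
    exact relIndex_dvd_of_le_left L le_sup_right
  have h1 : (O ⊔ ((T : Subgroup C) ⊓ L)).relIndex L = 1 := by
    obtain ⟨i, -, hi⟩ := (Nat.dvd_prime_pow Nat.prime_two).1 hd1
    rcases i with _ | i
    · simpa using hi
    · exfalso
      refine StrongEmb.not_dvd_relIndex_inf T L (dvd_trans ?_ hd2)
      rw [hi]; exact dvd_pow_self 2 (Nat.succ_ne_zero i)
  exact relIndex_eq_one.1 h1

/-- Modulo the core of a 2-constrained group, a central involution and every element whose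
commutators with a Sylow 2-subgroup lie in its span belong to `O_2`. -/
theorem mem_pCore_of_central (hC : Cfsg.IsPConstrained 2 C) (T : Sylow 2 C) {z a : C}
    (hz : z * z = 1) (hzc : ∀ g : C, Commute z g)
    (ha : ∀ t ∈ (T : Subgroup C), a * t * a⁻¹ * t⁻¹ ∈ zpowers z) :
    QuotientGroup.mk' (Cfsg.pPrimeCore 2 C) a ∈ Cfsg.pCore 2 (C ⧸ Cfsg.pPrimeCore 2 C) := by
  haveI : Fact (Nat.Prime 2) := ⟨Nat.prime_two⟩
  have hY : Constrained.IsCharP 2 (C ⧸ Cfsg.pPrimeCore 2 C) := Constrained.isPConstrained_iff.mp hC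
  set π := QuotientGroup.mk' (Cfsg.pPrimeCore 2 C) with hπ
  set R := Cfsg.pCore 2 (C ⧸ Cfsg.pPrimeCore 2 C) with hR
  haveI hRn : R.Normal := Cores.pCore_normal 2 _
  set ζ := π z with hζ
  have hζc : ∀ y, Commute ζ y := fun y => by
    obtain ⟨g, rfl⟩ := QuotientGroup.mk'_surjective _ y
    exact (hzc g).map π
  have hζ2 : ζ * ζ = 1 := by rw [hζ, ← map_mul, hz, map_one]
  have hcent : ∀ (y e : C ⧸ Cfsg.pPrimeCore 2 C), e ∈ zpowers ζ → y * e * y⁻¹ = e := fun y e he => by
    obtain ⟨i, rfl⟩ := mem_zpowers_iff.1 he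
    exact mul_inv_eq_iff_eq_mul.2 (((hζc y).symm.zpow_right i).eq)
  let N : Subgroup (C ⧸ Cfsg.pPrimeCore 2 C) :=
    { carrier := {y | ∀ r ∈ R, y * r * y⁻¹ * r⁻¹ ∈ zpowers ζ}
      one_mem' := fun r _ => by simp
      mul_mem' := fun {y₁ y₂} h₁ h₂ r hr => by
        have h := hcent y₁ _ (h₂ r hr)
        have : y₁ * y₂ * r * (y₁ * y₂)⁻¹ * r⁻¹ =
            y₁ * (y₂ * r * y₂⁻¹ * r⁻¹) * y₁⁻¹ * (y₁ * r * y₁⁻¹ * r⁻¹) := by group
        rw [this, h]
        exact mul_mem (h₂ r hr) (h₁ r hr)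
      inv_mem' := fun {y} h r hr => by
        have hr' : y⁻¹ * r * y ∈ R := by
          simpa using hRn.conj_mem r hr y⁻¹
        have h1 := h _ hr'
        have h2 := hcent y⁻¹ _ (inv_mem h1)
        rw [show y * (y⁻¹ * r * y) * y⁻¹ * (y⁻¹ * r * y)⁻¹ = r * (y⁻¹ * r * y)⁻¹ by group] at h1 h2
        simp only [inv_inv] at h2 ⊢
        have h3 : y⁻¹ * r * y * r⁻¹ = (r * (y⁻¹ * r * y)⁻¹)⁻¹ := by group
        rw [h3]
        exact inv_mem h1 }
  haveI hNn : N.Normal := ⟨fun y hy g r hr => by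
    have hr' : g⁻¹ * r * g ∈ R := by simpa using hRn.conj_mem r hr g⁻¹
    have h := hcent g _ (hy _ hr')
    have : g * y * g⁻¹ * r * (g * y * g⁻¹)⁻¹ * r⁻¹ =
        g * (y * (g⁻¹ * r * g) * y⁻¹ * (g⁻¹ * r * g)⁻¹) * g⁻¹ := by group
    rw [this, h]
    exact hy _ hr'⟩
  have hN2 : IsPGroup 2 N := by
    intro y
    have hyR : (y : C ⧸ Cfsg.pPrimeCore 2 C) ^ 2 ∈ R := by
      refine hY (mem_centralizer_iff.2 fun r hr => ?_)
      obtain ⟨i, hi⟩ := mem_zpowers_iff.1 (y.2 r hr)
      set w : C ⧸ Cfsg.pPrimeCore 2 C := y.1 with hw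
      have h1 : w * r * w⁻¹ = ζ ^ i * r := by rw [hi]; group
      have h2 : w * ζ ^ i * w⁻¹ = ζ ^ i := hcent w _ ⟨i, rfl⟩
      have h3 : w ^ 2 * r * (w ^ 2)⁻¹ = r := by
        calc w ^ 2 * r * (w ^ 2)⁻¹ = w * (w * r * w⁻¹) * w⁻¹ := by rw [pow_two, mul_inv_rev]; group
          _ = w * ζ ^ i * w⁻¹ * (w * r * w⁻¹) := by
            rw [show w * (w * r * w⁻¹) * w⁻¹ = w * (ζ ^ i * r) * w⁻¹ by rw [h1]]; group
          _ = ζ ^ i * ζ ^ i * r := by rw [h2, h1]; group
          _ = r := by rw [← zpow_add, ← two_mul, zpow_mul, zpow_two, hζ2, one_zpow, one_mul]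
      exact (mul_inv_eq_iff_eq_mul.1 h3).symm
    obtain ⟨k, hk⟩ := Cores.isPGroup_pCore 2 (C ⧸ Cfsg.pPrimeCore 2 C) ⟨_, hyR⟩
    refine ⟨k + 1, Subtype.ext ?_⟩
    have := congrArg Subtype.val hk
    simp only [Subgroup.coe_pow, Subgroup.coe_one] at this ⊢
    rw [pow_succ', pow_mul]
    exact this
  refine Cores.le_pCore hNn hN2 (fun r hr => ?_)
  obtain ⟨t, ht, rfl⟩ := Cores.pCore_le_sylow (T.mapSurjective (QuotientGroup.mk'_surjective _)) hr
  obtain ⟨i, hi⟩ := mem_zpowers_iff.1 (ha t ht)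
  refine ⟨i, ?_⟩
  show ζ ^ i = π a * π t * (π a)⁻¹ * (π t)⁻¹
  rw [hζ, ← map_zpow, hi, map_mul, map_mul, map_mul, map_inv, map_inv]

end Constrained

section Main

variable {S : Sylow 2 G} {U W : Subgroup G} {z : G}

/-- The common join of the cores of the rank three subgroups of `S`. -/
theorem NormalFour.exists_common (h : NormalFour S U z)
    (hθ : ∀ F : Subgroup G, Cfsg.IsElementaryAbelian 2 F → 2 ^ 3 ≤ Nat.card F →
      Cfsg.IsSolvableSignalizerFunctor 2 F (fun a => Cfsg.centralizerPPrimeCore 2 a))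
    {F₀ : Subgroup G} (hF₀ : Cfsg.IsElementaryAbelian 2 F₀) (hF₀3 : 2 ^ 3 ≤ Nat.card F₀)
    (hF₀S : F₀ ≤ (S : Subgroup G)) :
    ∃ FU : Subgroup G, Cfsg.IsElementaryAbelian 2 FU ∧ 2 ^ 3 ≤ Nat.card FU ∧
      FU ≤ (S : Subgroup G) ∧ U ≤ FU ∧
      ∀ F : Subgroup G, Cfsg.IsElementaryAbelian 2 F → 2 ^ 3 ≤ Nat.card F →
        F ≤ (S : Subgroup G) → wCore F = wCore FU := by
  haveI : Fact (Nat.Prime 2) := ⟨Nat.prime_two⟩
  have hU4 : IsFour U := ⟨h.elem, by rw [h.card]; norm_num⟩
  have key : ∀ F : Subgroup G, Cfsg.IsElementaryAbelian 2 F → 2 ^ 3 ≤ Nat.card F →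
      F ≤ (S : Subgroup G) → ∃ F' : Subgroup G, Cfsg.IsElementaryAbelian 2 F' ∧
        2 ^ 3 ≤ Nat.card F' ∧ F' ≤ (S : Subgroup G) ∧ U ≤ F' ∧ wCore F = wCore F' := by
    intro F hF hF3 hFS
    set D := F ⊓ centralizer (U : Set G) with hD
    have hDe : Cfsg.IsElementaryAbelian 2 D := Signalizer.elemAb_of_le hF inf_le_left
    have hD4 : IsFour D := ⟨hDe, by
      have := h.card_le_two_mul hFS
      rw [← hD] at this
      omega⟩
    by_cases hDU : D ≤ U
    · have : D = U := eq_of_le_of_card_ge hDU (by rw [h.card]; have := hD4.2; omega)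
      exact ⟨F, hF, hF3, hFS, this.ge.trans inf_le_left, rfl⟩
    have he : Cfsg.IsElementaryAbelian 2 (U ⊔ D) := Signalizer.elemAb_sup h.elem hDe
      fun a ha b hb => mem_centralizer_iff.1 hb.2 a ha
    obtain ⟨d, hd, hdU⟩ := SetLike.not_le_iff_exists.1 hDU
    have h8 : 2 ^ 3 ≤ Nat.card ↥(U ⊔ D) := by
      have h1 := Signalizer.card_sup_zpowers he (le_sup_left : U ≤ U ⊔ D)
        ((le_sup_right : D ≤ U ⊔ D) hd) hdU
      have h3 := card_le_of_le (sup_le_sup_left (zpowers_le.2 hd) U : U ⊔ zpowers d ≤ U ⊔ D)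
      rw [h1, h.card] at h3
      omega
    exact ⟨U ⊔ D, he, h8, sup_le h.le (inf_le_left.trans hFS), le_sup_left,
      wCore_eq hθ hD4 hF hF3 inf_le_left he h8 le_sup_right⟩
  obtain ⟨FU, hFU, hFU3, hFUS, hUFU, -⟩ := key F₀ hF₀ hF₀3 hF₀S
  refine ⟨FU, hFU, hFU3, hFUS, hUFU, fun F hF hF3 hFS => ?_⟩
  obtain ⟨F', hF', hF'3, -, hUF', he⟩ := key F hF hF3 hFS
  exact he.trans (wCore_eq hθ hU4 hF' hF'3 hUF' hFU hFU3 hUFU)

variable (h : NormalFour S U z)
  (hθ : ∀ F : Subgroup G, Cfsg.IsElementaryAbelian 2 F → 2 ^ 3 ≤ Nat.card F →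
    Cfsg.IsSolvableSignalizerFunctor 2 F (fun a => Cfsg.centralizerPPrimeCore 2 a))
  (hW : ∀ F : Subgroup G, Cfsg.IsElementaryAbelian 2 F → 2 ^ 3 ≤ Nat.card F →
    F ≤ (S : Subgroup G) → wCore F = W)
  {FU : Subgroup G} (hFU : Cfsg.IsElementaryAbelian 2 FU) (hFU3 : 2 ^ 3 ≤ Nat.card FU)
  (hFUS : FU ≤ (S : Subgroup G)) (hUFU : U ≤ FU)
  (hcon : ∀ t : G, orderOf t = 2 → Cfsg.IsPConstrained 2 ↥(centralizer ({t} : Set G)))

include hθ hW in
theorem core_le_of_good {x : G} (hx : orderOf x = 2) (hg : Good S x) :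
    W ⊓ centralizer ({x} : Set G) = Cfsg.centralizerPPrimeCore 2 x := by
  obtain ⟨F, hF, hF3, hxF, hFS⟩ := hg
  rw [← hW F hF hF3 hFS]
  exact (wCore_spec hθ hF hF3).2.2 x hxF fun e => by rw [e, orderOf_one] at hx; omega

include h hθ hW hFU hFU3 hFUS in
theorem sylow_le_normalizer : (S : Subgroup G) ≤ normalizer (W : Set G) := by
  intro s hs
  obtain ⟨E, hEF, hE, hE4⟩ := exists_four_le hFU (le_trans (by norm_num) hFU3)
  refine mem_normalizer_of_fours hθ hW ⟨hE, by rw [hE4]; norm_num⟩ hFU hFU3 hFUS hEF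
    (elemAb_conj hFU s) (by rw [Solvable.card_conj]; exact hFU3) ?_ (Solvable.conj_mono s hEF)
  rintro _ ⟨a, ha, rfl⟩
  exact mul_mem (mul_mem hs (hFUS ha)) (inv_mem hs)

include h hθ hW hFU hFU3 hFUS hUFU hcon in
/-- The centraliser of the central involution normalises `W`. -/
theorem centralizer_central_le :
    centralizer ({z} : Set G) ≤ normalizer (W : Set G) := by
  haveI : Fact (Nat.Prime 2) := ⟨Nat.prime_two⟩
  set M := normalizer (W : Set G) with hM
  set C := centralizer ({z} : Set G) with hC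
  have hSM : (S : Subgroup G) ≤ M := sylow_le_normalizer h hθ hW hFU hFU3 hFUS
  have hzz := h.z_mul_z
  have hzo : orderOf z = 2 := orderOf_eq_prime (h.elem.2 z h.mem) h.ne
  have hSC : (S : Subgroup G) ≤ C := fun s hs =>
    mem_centralizer_singleton_iff.2 (h.central s hs).symm.eq
  have hWodd : ¬ 2 ∣ Nat.card W := hW FU hFU hFU3 hFUS ▸ (wCore_spec hθ hFU hFU3).1
  have hgoodU : ∀ a ∈ U, Good S a := fun a ha => ⟨FU, hFU, hFU3, hUFU ha, hFUS⟩
  set O := Cfsg.pPrimeCore 2 ↥C with hO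
  haveI : O.Normal := Cores.pPrimeCore_normal 2 ↥C
  set π := QuotientGroup.mk' O with hπ
  set T : Sylow 2 C := S.subtype hSC with hT
  set L := (Cfsg.pCore 2 (↥C ⧸ O)).comap π with hL
  haveI : L.Normal := (Cores.pCore_normal 2 _).comap π
  have hOL : O ≤ L := fun o ho => by
    rw [hL, mem_comap, show π o = 1 from (QuotientGroup.eq_one_iff o).2 ho]; exact one_mem _
  have hLle : L ≤ O ⊔ ((T : Subgroup C) ⊓ L) := by
    refine le_core_sup_inf T L hOL ?_
    obtain ⟨m, hm⟩ := IsPGroup.iff_card.1 (Cores.isPGroup_pCore 2 (↥C ⧸ O))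
    have h5 := relIndex_comap (⊥ : Subgroup (↥C ⧸ O)) π L
    rw [MonoidHom.comap_bot, hπ, QuotientGroup.ker_mk', ← hπ] at h5
    exact ⟨m, by rw [← hO, h5, hL, map_comap_eq_self_of_surjective (QuotientGroup.mk'_surjective O),
      relIndex_bot_left, hm]⟩
  set TL := ((T : Subgroup C) ⊓ L).map C.subtype with hTL
  have hTLS : TL ≤ (S : Subgroup G) := by
    rintro _ ⟨a, ha, rfl⟩; exact ha.1
  -- `U ≤ TL`
  have hUTL : U ≤ TL := by
    intro a ha
    refine ⟨⟨a, hSC (h.le ha)⟩, ⟨h.le ha, ?_⟩, rfl⟩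
    refine mem_pCore_of_central (hcon z hzo) T (z := ⟨z, hSC (h.le h.mem)⟩) (Subtype.ext hzz)
      (fun g => Subtype.ext (mem_centralizer_singleton_iff.1 g.2).symm) fun t ht => ?_
    have key : ∀ s ∈ S, a * s * a⁻¹ * s⁻¹ = 1 ∨ a * s * a⁻¹ * s⁻¹ = z := by
      intro s hs
      by_cases ha' : a = 1 ∨ a = z
      · refine Or.inl ?_
        have hc : Commute a s := by
          rcases ha' with rfl | rfl
          · exact Commute.one_left s
          · exact h.central s hs
        rw [hc.eq]; group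
      push Not at ha'
      have hai : a⁻¹ = a := inv_eq_of_mul_eq_one_right (by rw [← pow_two]; exact h.elem.2 a ha)
      rcases h.conj_cases ha ha'.1 ha'.2 hs with e | e
      · refine Or.inl ?_
        calc a * s * a⁻¹ * s⁻¹ = a * (s * a⁻¹ * s⁻¹) := by group
          _ = 1 := by rw [hai, e, ← pow_two, h.elem.2 a ha]
      · refine Or.inr ?_
        calc a * s * a⁻¹ * s⁻¹ = a * (s * a⁻¹ * s⁻¹) := by group
          _ = z := by rw [hai, e, ← mul_assoc, ← pow_two, h.elem.2 a ha, one_mul]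
    rcases key (t : G) ht with e | e
    · rw [show (⟨a, hSC (h.le ha)⟩ : C) * t * (⟨a, hSC (h.le ha)⟩ : C)⁻¹ * t⁻¹ = 1 from Subtype.ext e]
      exact one_mem _
    · rw [show (⟨a, hSC (h.le ha)⟩ : C) * t * (⟨a, hSC (h.le ha)⟩ : C)⁻¹ * t⁻¹ =
        ⟨z, hSC (h.le h.mem)⟩ from Subtype.ext e]
      exact mem_zpowers _
  -- the elements normalising `TL`
  set N := C ⊓ normalizer (TL : Set G) with hN
  have hU4 : IsFour U := ⟨h.elem, by rw [h.card]; norm_num⟩
  obtain ⟨u, hu, hu1, huz⟩ := h.exists_u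
  have hconjTL : ∀ g ∈ N, ∀ a ∈ U, g * a * g⁻¹ ∈ TL := fun g hg a ha =>
    (mem_normalizer_iff.1 hg.2 a).1 (hUTL ha)
  have hfix : ∀ g ∈ N, g * z * g⁻¹ = z := fun g hg =>
    mul_inv_eq_iff_eq_mul.2 (mem_centralizer_singleton_iff.1 hg.1)
  -- if some conjugate of `u` commutes with `u`, the element is in `M`
  have hcase : ∀ g ∈ N, Commute (g * u * g⁻¹) u → g ∈ M := by
    intro g hg hc
    set v := g * u * g⁻¹ with hv
    have hvS : v ∈ S := hTLS (hconjTL g hg u hu)
    have hv2 : v ^ 2 = 1 := by rw [hv, conj_pow, h.elem.2 u hu, mul_one, mul_inv_cancel]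
    obtain ⟨F', hF', hF'3, hF'S, hle⟩ : ∃ F' : Subgroup G, Cfsg.IsElementaryAbelian 2 F' ∧
        2 ^ 3 ≤ Nat.card F' ∧ F' ≤ (S : Subgroup G) ∧ MulAut.conj g • U ≤ F' := by
      have hmem : ∀ F' : Subgroup G, v ∈ F' → z ∈ F' → MulAut.conj g • U ≤ F' := by
        rintro F' hvF hzF _ ⟨a, ha, rfl⟩
        show g * a * g⁻¹ ∈ F'
        rcases h.eq_of_mem hu hu1 huz ha with rfl | rfl | rfl | rfl
        · simp
        · rwa [hfix g hg]
        · exact hvF
        · rw [show g * (u * z) * g⁻¹ = v * (g * z * g⁻¹) by rw [hv]; group, hfix g hg]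
          exact mul_mem hvF hzF
      by_cases hvU : v ∈ U
      · exact ⟨FU, hFU, hFU3, hFUS, hmem FU (hUFU hvU) (hUFU h.mem)⟩
      have hvc : v ∈ centralizer (U : Set G) := h.mem_centralizer hu hu1 huz hvS hc
      have he : Cfsg.IsElementaryAbelian 2 (U ⊔ zpowers v) := Signalizer.elemAb_sup h.elem
        (isElementaryAbelian_zpowers hv2) fun a ha b hb => by
          obtain ⟨i, rfl⟩ := mem_zpowers_iff.1 hb
          exact ((show Commute a v from mem_centralizer_iff.1 hvc a ha).zpow_right i).eq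
      refine ⟨U ⊔ zpowers v, he, ?_, sup_le h.le (zpowers_le.2 hvS),
        hmem _ (le_sup_right (a := U) (mem_zpowers v)) (le_sup_left (b := zpowers v) h.mem)⟩
      rw [Signalizer.card_sup_zpowers he le_sup_left (le_sup_right (a := U) (mem_zpowers v)) hvU,
        h.card]
      norm_num
    exact mem_normalizer_of_fours hθ hW hU4 hFU hFU3 hFUS hUFU hF' hF'3 hF'S hle
  have hswap : ∀ g ∈ N, g ∉ M →
      u * (g * u * g⁻¹) * u⁻¹ = g * u * g⁻¹ * z ∧ g * u * g⁻¹ * u * (g * u * g⁻¹)⁻¹ = u * z := by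
    intro g hg hgM
    have hvS : g * u * g⁻¹ ∈ S := hTLS (hconjTL g hg u hu)
    have h1 : g * u * g⁻¹ * u * (g * u * g⁻¹)⁻¹ = u * z :=
      (h.conj_cases hu hu1 huz hvS).resolve_left fun e => hgM (hcase g hg (mul_inv_eq_iff_eq_mul.1 e))
    refine ⟨?_, h1⟩
    set v := g * u * g⁻¹
    have h2 : v * u = u * z * v := mul_inv_eq_iff_eq_mul.1 h1
    have hui : u⁻¹ = u := inv_eq_of_mul_eq_one_right (by rw [← pow_two]; exact h.elem.2 u hu)
    have huu : u * u = 1 := by rw [← pow_two]; exact h.elem.2 u hu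
    rw [hui, mul_assoc, h2]
    calc u * (u * z * v) = u * u * (z * v) := by group
      _ = v * z := by rw [huu, one_mul, (h.central v hvS).eq]
  have hNM : N ≤ M := by
    intro c hc
    by_contra hcM
    -- a third coset
    obtain ⟨d, hd, hdM, hcd⟩ : ∃ d ∈ N, d ∉ M ∧ c⁻¹ * d ∉ M := by
      by_contra hcon'
      push Not at hcon'
      classical
      let f : N → ↥(N ⊓ M) × Bool := fun d =>
        if hd : (d : G) ∈ M then (⟨d, d.2, hd⟩, false)
        else (⟨c⁻¹ * d, N.mul_mem (inv_mem hc) d.2, hcon' d d.2 hd⟩, true)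
      have hf : Function.Injective f := by
        intro s t e
        simp only [f] at e
        split_ifs at e
        · exact Subtype.ext (congrArg Subtype.val (congrArg Prod.fst e) :)
        · exact absurd (congrArg Prod.snd e) (by simp)
        · exact absurd (congrArg Prod.snd e) (by simp)
        · exact Subtype.ext (mul_left_cancel (congrArg Subtype.val (congrArg Prod.fst e) :))
      have hle := Nat.card_le_card_of_injective f hf
      rw [Nat.card_prod, Nat.card_eq_fintype_card (α := Bool), Fintype.card_bool] at hle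
      have hSN : (S : Subgroup G) ≤ N := by
        refine le_inf hSC fun s hs => mem_normalizer_iff.2 fun a => ?_
        have hn : ∀ s ∈ S, ∀ a ∈ TL, s * a * s⁻¹ ∈ TL := by
          rintro s hs _ ⟨a, ha, rfl⟩
          refine ⟨⟨s, hSC hs⟩ * a * ⟨s, hSC hs⟩⁻¹, ⟨?_, Subgroup.Normal.conj_mem inferInstance a ha.2 _⟩, rfl⟩
          exact (T : Subgroup C).mul_mem ((T : Subgroup C).mul_mem hs ha.1) ((T : Subgroup C).inv_mem hs)
        refine ⟨hn s hs a, fun ha => ?_⟩
        have := hn s⁻¹ (inv_mem hs) _ ha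
        simpa [mul_assoc] using this
      have h2 := relIndex_mul_relIndex ⊥ (N ⊓ M) N bot_le inf_le_left
      rw [relIndex_bot_left, relIndex_bot_left] at h2
      rw [← h2] at hle
      have h3 := Nat.le_of_mul_le_mul_left hle Nat.card_pos
      have h4 : (N ⊓ M).relIndex N ≠ 2 := fun e => by
        have h5 : (N ⊓ M).relIndex N ∣ (S : Subgroup G).index :=
          (relIndex_dvd_of_le_left N (le_inf hSN hSM)).trans
            (dvd_trans (dvd_of_eq rfl) (relIndex_dvd_index_of_le hSN))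
        rw [e] at h5
        exact S.not_dvd_index h5
      have h6 : (N ⊓ M).relIndex N ≠ 0 := Subgroup.index_ne_zero_of_finite
      exact hcM (relIndex_eq_one.1 (show (N ⊓ M).relIndex N = 1 by omega) hc).2
    obtain ⟨hv1, hv2⟩ := hswap c hc hcM
    obtain ⟨hw1, -⟩ := hswap d hd hdM
    obtain ⟨hcd1, hcd2⟩ := hswap _ (N.mul_mem (inv_mem hc) hd) hcd
    set v := c * u * c⁻¹ with hv
    set w := d * u * d⁻¹ with hw
    have hwv : w * v * w⁻¹ = v * z := by
      have h1 : c * (c⁻¹ * d * u * (c⁻¹ * d)⁻¹ * u * (c⁻¹ * d * u * (c⁻¹ * d)⁻¹)⁻¹) * c⁻¹ =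
          c * (u * z) * c⁻¹ := by rw [hcd2]
      calc w * v * w⁻¹ = c * (c⁻¹ * d * u * (c⁻¹ * d)⁻¹ * u * (c⁻¹ * d * u * (c⁻¹ * d)⁻¹)⁻¹) * c⁻¹ := by
            rw [hw, hv]; group
        _ = c * (u * z) * c⁻¹ := h1
        _ = v * (c * z * c⁻¹) := by rw [hv]; group
        _ = v * z := by rw [hfix c hc]
    have hui : u⁻¹ = u := inv_eq_of_mul_eq_one_right (by rw [← pow_two]; exact h.elem.2 u hu)
    have hq : u * w * (u * w) = z := by
      have h1 : u * w * u = w * z := by rwa [hui] at hw1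
      have hw2 : w * w = 1 := by
        rw [hw, ← pow_two, conj_pow, h.elem.2 u hu, mul_one, mul_inv_cancel]
      calc u * w * (u * w) = u * w * u * w := by group
        _ = w * (z * w) := by rw [h1, mul_assoc]
        _ = z := by rw [(h.central w (hTLS (hconjTL d hd u hu))).eq, ← mul_assoc, hw2, one_mul]
    have hqv : Commute (u * w) v := by
      refine mul_inv_eq_iff_eq_mul.1 ?_
      calc u * w * v * (u * w)⁻¹ = u * (w * v * w⁻¹) * u⁻¹ := by group
        _ = (u * v * u⁻¹) * (u * z * u⁻¹) := by rw [hwv]; group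
        _ = v := by rw [hv1, mul_inv_eq_iff_eq_mul.2 (h.comm hu h.mem).eq, mul_assoc, hzz, mul_one]
    have hqS : u * w ∈ S := mul_mem (h.le hu) (hTLS (hconjTL d hd u hu))
    -- the cores seen from `c • U`
    have hcU : MulAut.conj c • U ≤ M := by
      rintro _ ⟨a, ha, rfl⟩
      exact hSM (hTLS (hconjTL c hc a ha))
    have hWc : W ≤ MulAut.conj c • W := by
      refine Signalizer.le_of_elements (hU4.conj c).1 (hU4.conj c).2 _ _ hWodd hcU fun e he he1 => ?_
      obtain ⟨a, ha, rfl⟩ := he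
      change W ⊓ centralizer ({c * a * c⁻¹} : Set G) ≤ (W.map (MulAut.conj c).toMonoidHom)
      change c * a * c⁻¹ ≠ 1 at he1
      have ha1 : a ≠ 1 := fun e => he1 (by rw [e, mul_one, mul_inv_cancel])
      have hao : orderOf a = 2 := orderOf_eq_prime (h.elem.2 a ha) ha1
      have hcore : Cfsg.centralizerPPrimeCore 2 (c * a * c⁻¹) ≤
          W.map (MulAut.conj c).toMonoidHom := by
        rw [← Signalizer.map_conj_centralizerPPrimeCore]
        exact map_mono ((core_le_of_good hθ hW hao (hgoodU a ha)).ge.trans inf_le_left)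
      refine le_trans ?_ hcore
      by_cases haz : a = z
      · rw [haz, hfix c hc]
        exact (core_le_of_good hθ hW hzo (hgoodU z h.mem)).le
      have hqa : Commute (u * w) (c * a * c⁻¹) := by
        rcases h.eq_of_mem hu hu1 huz ha with rfl | rfl | rfl | rfl
        · exact absurd rfl ha1
        · exact absurd rfl haz
        · exact hqv
        · rw [show c * (u * z) * c⁻¹ = v * (c * z * c⁻¹) by rw [hv]; group, hfix c hc]
          exact hqv.mul_right (h.central _ hqS).symm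
      set T₁ := ((S : Subgroup G) ⊓ centralizer (U : Set G)).map (MulAut.conj c).toMonoidHom with hT₁
      refine inf_centralizer_le_core S (q := u * w) (T₁ := T₁) hWodd
        (core_le_of_good hθ hW hzo (hgoodU z h.mem)).le hzz hq hqa
        (hcon _ (by rw [Involution.orderOf_conj, hao]))
        (fun x hx => (mem_normalizer_iff.1 (hSM hqS) x).1 hx) ((S.isPGroup'.to_le inf_le_left).map _)
        ?_ ?_ ?_
      · rintro _ ⟨t, ht, rfl⟩
        exact mem_centralizer_singleton_iff.2 (((show Commute a t from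
          mem_centralizer_iff.1 ht.2 a ha).symm.map (MulAut.conj c).toMonoidHom).eq)
      · rintro _ ⟨t, ht, rfl⟩
        have := (h.central t ht.1).map (MulAut.conj c).toMonoidHom
        simp only [MulEquiv.coe_toMonoidHom, MulAut.conj_apply] at this ⊢
        rwa [hfix c hc] at this
      · rw [hT₁, card_map_of_injective (MulAut.conj c).injective]
        exact h.card_le_two_mul le_rfl
    exact hcM (Solvable.mem_normalizer_iff_conj.2
      (eq_of_le_of_card_ge hWc (Solvable.card_conj c W).le).symm)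
  -- Frattini
  have hfr := StrongEmb.normalizer_inf_sup_eq_top T L
  have htop : (⊤ : Subgroup C) ≤ M.comap C.subtype := by
    rw [← hfr]
    refine sup_le (fun a ha => ?_) (hLle.trans (sup_le ?_ fun a ha => hSM ha.1))
    · refine hNM ⟨a.2, ?_⟩
      exact le_normalizer_map C.subtype ⟨a, ha, rfl⟩
    · intro o ho
      show (o : G) ∈ M
      exact le_normalizer (((core_le_of_good hθ hW hzo (hgoodU z h.mem)).ge.trans inf_le_left)
        (⟨o, ho, rfl⟩ : (o : G) ∈ Cfsg.centralizerPPrimeCore 2 z))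
  exact fun c hc => htop (mem_top (⟨c, hc⟩ : C))

include h hθ hW hFU hFU3 hFUS hUFU hcon in
/-- The centralisers of the good involutions normalise `W`. -/
theorem centralizer_good_le {x : G} (hxS : x ∈ S) (hx : orderOf x = 2) (hg : Good S x) :
    centralizer ({x} : Set G) ≤ normalizer (W : Set G) := by
  haveI : Fact (Nat.Prime 2) := ⟨Nat.prime_two⟩
  set M := normalizer (W : Set G) with hM
  have hSM : (S : Subgroup G) ≤ M := sylow_le_normalizer h hθ hW hFU hFU3 hFUS
  have hzz := h.z_mul_z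
  have hz2 : z ^ 2 = 1 := h.elem.2 z h.mem
  -- the case of an involution with Sylow centraliser in `S`
  have main : ∀ y : G, y ∈ S → orderOf y = 2 → Good S y → y ≠ z →
      (∀ Q : Subgroup G, IsPGroup 2 Q → Q ≤ centralizer ({y} : Set G) →
        (S : Subgroup G) ⊓ centralizer ({y} : Set G) ≤ Q →
        Q = (S : Subgroup G) ⊓ centralizer ({y} : Set G)) →
      centralizer ({y} : Set G) ≤ M := by
    intro y hyS hy hgy hyz hmax
    set C := centralizer ({y} : Set G) with hC
    have hy2 : y ^ 2 = 1 := hy ▸ pow_orderOf_eq_one y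
    obtain ⟨F, hF, hF3, hyF, hFS⟩ := hgy
    have hSCp : IsPGroup 2 ↥((S : Subgroup G) ⊓ C) := S.isPGroup'.to_le inf_le_left
    obtain ⟨T, hTle⟩ := (hSCp.comap_of_injective C.subtype C.subtype_injective).exists_le_sylow
    have hTS : ∀ a : C, a ∈ (T : Subgroup C) → (a : G) ∈ S := by
      intro a ha
      have h1 := hmax ((T : Subgroup C).map C.subtype) (T.isPGroup'.map _) (map_subtype_le _)
        (fun b hb => ⟨⟨b, hb.2⟩, hTle (show (⟨b, hb.2⟩ : C) ∈ ((S : Subgroup G) ⊓ C).comap C.subtype from hb), rfl⟩)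
      exact ((h1.le ⟨a, ha, rfl⟩ : (a : G) ∈ (S : Subgroup G) ⊓ C)).1
    have hzC : z ∈ C := mem_centralizer_singleton_iff.2 (h.central y hyS).eq
    have hyC : y ∈ C := mem_centralizer_singleton_iff.2 rfl
    set O := Cfsg.pPrimeCore 2 ↥C with hO
    haveI : O.Normal := Cores.pPrimeCore_normal 2 ↥C
    set π := QuotientGroup.mk' O with hπ
    set L := (Cfsg.pCore 2 (↥C ⧸ O)).comap π with hL
    haveI : L.Normal := (Cores.pCore_normal 2 _).comap π
    have hOL : O ≤ L := fun o ho => by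
      rw [hL, mem_comap, show π o = 1 from (QuotientGroup.eq_one_iff o).2 ho]; exact one_mem _
    have hLle : L ≤ O ⊔ ((T : Subgroup C) ⊓ L) := by
      refine le_core_sup_inf T L hOL ?_
      obtain ⟨m, hm⟩ := IsPGroup.iff_card.1 (Cores.isPGroup_pCore 2 (↥C ⧸ O))
      have h5 := relIndex_comap (⊥ : Subgroup (↥C ⧸ O)) π L
      rw [MonoidHom.comap_bot, hπ, QuotientGroup.ker_mk', ← hπ] at h5
      exact ⟨m, by rw [← hO, h5, hL, map_comap_eq_self_of_surjective (QuotientGroup.mk'_surjective O),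
        relIndex_bot_left, hm]⟩
    have hY : Constrained.IsCharP 2 (↥C ⧸ O) := Constrained.isPConstrained_iff.mp (hcon y hy)
    have hzL : (⟨z, hzC⟩ : C) ∈ (T : Subgroup C) ⊓ L := by
      refine ⟨hTle (show (⟨z, hzC⟩ : C) ∈ ((S : Subgroup G) ⊓ C).comap C.subtype from ⟨h.le h.mem, hzC⟩),
        mem_comap.2 (hY (mem_centralizer_iff.2 fun r hr => ?_))⟩
      obtain ⟨t, ht, rfl⟩ := Cores.pCore_le_sylow (T.mapSurjective (QuotientGroup.mk'_surjective _)) hr
      exact ((show Commute t (⟨z, hzC⟩ : C) from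
        Subtype.ext (h.central _ (hTS t ht)).symm.eq).map π).eq
    have hE : Cfsg.IsElementaryAbelian 2 (zpowers y ⊔ zpowers z) := Signalizer.elemAb_sup
      (isElementaryAbelian_zpowers hy2) (isElementaryAbelian_zpowers hz2) fun a ha b hb => by
        obtain ⟨i, rfl⟩ := mem_zpowers_iff.1 ha
        obtain ⟨j, rfl⟩ := mem_zpowers_iff.1 hb
        exact ((h.central y hyS).symm.zpow_zpow i j).eq
    have hzy : z ∉ zpowers y := fun hm => by
      obtain ⟨i, hi⟩ := mem_zpowers_iff.1 hm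
      rcases Int.emod_two_eq_zero_or_one i with hi2 | hi2 <;>
        rw [← zpow_mod_orderOf, hy, Nat.cast_ofNat, hi2] at hi
      · exact h.ne (by rw [← hi, zpow_zero])
      · exact hyz (by rw [← hi, zpow_one])
    have hE4 : IsFour (zpowers y ⊔ zpowers z) := ⟨hE, by
      rw [Signalizer.card_sup_zpowers hE le_sup_left
        ((le_sup_right : zpowers z ≤ _) (mem_zpowers z)) hzy, Nat.card_zpowers, hy]
      norm_num⟩
    -- a rank three subgroup above `⟨y, z⟩`
    have hF' : Cfsg.IsElementaryAbelian 2 (F ⊔ zpowers z) := Signalizer.elemAb_sup hF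
      (isElementaryAbelian_zpowers hz2) fun a ha b hb => by
        obtain ⟨j, rfl⟩ := mem_zpowers_iff.1 hb
        exact ((h.central a (hFS ha)).symm.zpow_right j).eq
    have hF'3 : 2 ^ 3 ≤ Nat.card ↥(F ⊔ zpowers z) := hF3.trans (card_le_of_le le_sup_left)
    have hF'S : F ⊔ zpowers z ≤ (S : Subgroup G) := sup_le hFS (zpowers_le.2 (h.le h.mem))
    have hEF' : zpowers y ⊔ zpowers z ≤ F ⊔ zpowers z := sup_le_sup_right (zpowers_le.2 hyF) _
    have hNM : ∀ a : C, a ∈ normalizer (((T : Subgroup C) ⊓ L : Subgroup C) : Set C) → (a : G) ∈ M := by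
      intro a ha
      have hz' := (mem_normalizer_iff.1 ha _).1 hzL
      set z' : G := (a : G) * z * (a : G)⁻¹ with hz'def
      have hz'S : z' ∈ S := hTS _ hz'.1
      have hz'2 : z' ^ 2 = 1 := by rw [hz'def, conj_pow, hz2, mul_one, mul_inv_cancel]
      have hay : (a : G) * y * (a : G)⁻¹ = y :=
        mul_inv_eq_iff_eq_mul.2 (mem_centralizer_singleton_iff.1 a.2)
      have hz'y : Commute z' y := mem_centralizer_singleton_iff.1
        (show z' ∈ C from C.mul_mem (C.mul_mem a.2 hzC) (inv_mem a.2))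
      have hle : ∀ F'' : Subgroup G, y ∈ F'' → z' ∈ F'' →
          MulAut.conj (a : G) • (zpowers y ⊔ zpowers z) ≤ F'' := by
        intro F'' hy' hz''
        change (zpowers y ⊔ zpowers z).map (MulAut.conj (a : G)).toMonoidHom ≤ F''
        rw [map_le_iff_le_comap]
        exact sup_le (zpowers_le.2 (by show (a : G) * y * (a : G)⁻¹ ∈ F''; rwa [hay]))
          (zpowers_le.2 hz'')
      by_cases hz'E : z' ∈ zpowers y ⊔ zpowers z
      · exact mem_normalizer_of_fours hθ hW hE4 hF' hF'3 hF'S hEF' hF' hF'3 hF'S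
          (hle _ (hEF' ((le_sup_left : zpowers y ≤ _) (mem_zpowers y))) (hEF' hz'E))
      have he : Cfsg.IsElementaryAbelian 2 ((zpowers y ⊔ zpowers z) ⊔ zpowers z') := by
        refine Signalizer.elemAb_sup hE (isElementaryAbelian_zpowers hz'2) fun b hb c hc => ?_
        obtain ⟨j, rfl⟩ := mem_zpowers_iff.1 hc
        have h1 : zpowers y ⊔ zpowers z ≤ centralizer ({z'} : Set G) :=
          sup_le (zpowers_le.2 (mem_centralizer_singleton_iff.2 hz'y.symm.eq))
            (zpowers_le.2 (mem_centralizer_singleton_iff.2 (h.central z' hz'S).eq))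
        exact ((show Commute b z' from mem_centralizer_singleton_iff.1 (h1 hb)).zpow_right j).eq
      refine mem_normalizer_of_fours hθ hW hE4 hF' hF'3 hF'S hEF' he ?_
        (sup_le (sup_le (zpowers_le.2 hyS) (zpowers_le.2 (h.le h.mem))) (zpowers_le.2 hz'S))
        (hle _ ((le_sup_left : zpowers y ≤ _).trans le_sup_left (mem_zpowers y))
          ((le_sup_right : zpowers z' ≤ _) (mem_zpowers z')))
      rw [Signalizer.card_sup_zpowers he le_sup_left
        ((le_sup_right : zpowers z' ≤ _) (mem_zpowers z')) hz'E]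
      have := hE4.2
      omega
    have hfr := StrongEmb.normalizer_inf_sup_eq_top T L
    have htop : (⊤ : Subgroup C) ≤ M.comap C.subtype := by
      rw [← hfr]
      refine sup_le hNM (hLle.trans (sup_le ?_ fun a ha => hSM (hTS a ha.1)))
      intro o ho
      show (o : G) ∈ M
      exact le_normalizer (((core_le_of_good hθ hW hy ⟨F, hF, hF3, hyF, hFS⟩).ge.trans inf_le_left)
        (⟨o, ho, rfl⟩ : (o : G) ∈ Cfsg.centralizerPPrimeCore 2 y))
    exact fun c hc => htop (mem_top (⟨c, hc⟩ : C))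
  -- move `x` to an involution with Sylow centraliser in `S`
  obtain ⟨F, hF, hF3, hxF, hFS⟩ := hg
  set C := centralizer ({x} : Set G) with hC
  have hFC : F ≤ C := fun f hf =>
    mem_centralizer_singleton_iff.2 (Signalizer.commute_of_isMulCommutative hF.1 hf hxF)
  obtain ⟨T, hTle⟩ := ((Signalizer.isPGroup_of_elemAb hF).comap_of_injective C.subtype
    C.subtype_injective).exists_le_sylow
  obtain ⟨Q, hQ⟩ := (T.isPGroup'.map C.subtype).exists_le_sylow
  obtain ⟨g, hg⟩ := MulAction.exists_smul_eq G Q S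
  have hTg : ∀ a : C, a ∈ (T : Subgroup C) → g * a * g⁻¹ ∈ S := fun a ha =>
    hg ▸ ⟨a, hQ ⟨a, ha, rfl⟩, rfl⟩
  have hFT : ∀ f (hf : f ∈ F), (⟨f, hFC hf⟩ : C) ∈ (T : Subgroup C) := fun f hf => hTle hf
  obtain ⟨E, hEF, hEe, hE4⟩ := exists_four_le hF (le_trans (by norm_num) hF3)
  have hgF : MulAut.conj g • F ≤ (S : Subgroup G) := by
    rintro _ ⟨f, hf, rfl⟩
    exact hTg _ (hFT f hf)
  have hgM : g ∈ M := mem_normalizer_of_fours hθ hW ⟨hEe, by rw [hE4]; norm_num⟩ hF hF3 hFS hEF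
    (elemAb_conj hF g) (by rw [Solvable.card_conj]; exact hF3) hgF (Solvable.conj_mono g hEF)
  set y := g * x * g⁻¹ with hy
  have hyS : y ∈ S := hgF ⟨x, hxF, rfl⟩
  have hy2 : orderOf y = 2 := by rw [hy, Involution.orderOf_conj, hx]
  have hmain : centralizer ({y} : Set G) ≤ M := by
    by_cases hyz : y = z
    · rw [hyz]; exact centralizer_central_le h hθ hW hFU hFU3 hFUS hUFU hcon
    refine main y hyS hy2 ⟨MulAut.conj g • F, elemAb_conj hF g, by rw [Solvable.card_conj]; exact hF3,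
      ⟨x, hxF, rfl⟩, hgF⟩ hyz fun Q' hQ' hQ'C hle => le_antisymm ?_ hle
    set T' := MulAut.conj g⁻¹ • Q' with hT'
    have hT'C : T' ≤ C := by
      rintro _ ⟨a, ha, rfl⟩
      refine mem_centralizer_singleton_iff.2 ?_
      have h1 : Commute a y := mem_centralizer_singleton_iff.1 (hQ'C ha)
      have k1 := h1.map (MulAut.conj g⁻¹).toMonoidHom
      simp only [MulEquiv.coe_toMonoidHom, MulAut.conj_apply, inv_inv] at k1
      rw [show g⁻¹ * y * g = x by rw [hy]; group] at k1
      show g⁻¹ * a * g⁻¹⁻¹ * x = x * (g⁻¹ * a * g⁻¹⁻¹)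
      rw [inv_inv]; exact k1.eq
    have hTle' : (T : Subgroup C) ≤ T'.subgroupOf C := by
      intro a ha
      refine ⟨g * a * g⁻¹, hle ⟨hTg a ha, mem_centralizer_singleton_iff.2 ?_⟩, ?_⟩
      · exact ((show Commute (a : G) x from mem_centralizer_singleton_iff.1 a.2).map
          (MulAut.conj g).toMonoidHom).eq
      · show g⁻¹ * (g * a * g⁻¹) * g⁻¹⁻¹ = a
        group
    have heq := T.3 ((hQ'.map (MulAut.conj g⁻¹).toMonoidHom).comap_subtype) hTle'
    intro t ht
    refine ⟨?_, hQ'C ht⟩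
    have htT' : g⁻¹ * t * g ∈ T' := ⟨t, ht, by simp⟩
    have := hTg _ (heq.le (show (⟨_, hT'C htT'⟩ : C) ∈ T'.subgroupOf C from htT'))
    simpa [mul_assoc] using this
  intro c hc
  have h1 : g * c * g⁻¹ ∈ M := hmain (mem_centralizer_singleton_iff.2 (by
    rw [hy]
    exact ((show Commute c x from mem_centralizer_singleton_iff.1 hc).map
      (MulAut.conj g).toMonoidHom).eq))
  simpa [mul_assoc] using mul_mem (mul_mem (inv_mem hgM) h1) hgM

end Main

/-- Core killing: no normal subgroup of index two, 2-rank at least three, constrained centralisers. -/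
theorem core_eq_bot_of_no_index_two
    (hSE : ∀ H : Subgroup G, Cfsg.IsStronglyEmbedded H →
      (Cfsg.oddCore ↥H).map H.subtype ≤ Cfsg.oddCore G)
    (hO : Cfsg.oddCore G = ⊥) (hO2 : ∀ N : Subgroup G, N.Normal → N.index ≠ 2)
    (hrank : ¬ Cfsg.PRankLE 2 2 G)
    (hcon : ∀ t : G, orderOf t = 2 → Cfsg.IsPConstrained 2 ↥(centralizer ({t} : Set G)))
    (t : G) (ht : orderOf t = 2) : Cfsg.centralizerPPrimeCore 2 t = ⊥ := by
  haveI : Fact (Nat.Prime 2) := ⟨Nat.prime_two⟩
  have hθ : ∀ F : Subgroup G, Cfsg.IsElementaryAbelian 2 F → 2 ^ 3 ≤ Nat.card F →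
      Cfsg.IsSolvableSignalizerFunctor 2 F (fun a => Cfsg.centralizerPPrimeCore 2 a) :=
    fun F hF _ => ⟨⟨fun a _ _ => Signalizer.core_le_centralizer a,
      fun a _ _ => Signalizer.not_dvd_card_core a,
      fun a ha _ b hb _ hx => Signalizer.conj_mem (Signalizer.invariant_core hF.1 ha) hb hx,
      fun a ha _ b hb hb1 => Signalizer.core_inf_centralizer_le_core (hF.2 a ha)
        (Signalizer.commute_of_isMulCommutative hF.1 ha hb) (hcon b (orderOf_of_mem hF hb hb1))⟩,
      fun a _ _ => OddOrderTheorem.solvable (Nat.not_even_iff_odd.1 fun he =>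
        Signalizer.not_dvd_card_core a (even_iff_two_dvd.1 he))⟩
  obtain ⟨S⟩ : Nonempty (Sylow 2 G) := inferInstance
  obtain ⟨F₀, hF₀, hF₀3, hF₀S⟩ := exists_rank_three_sylow hrank S
  obtain ⟨U, z, h⟩ := exists_normalFour hF₀ hF₀3 hF₀S
  obtain ⟨FU, hFU, hFU3, hFUS, hUFU, hW⟩ := h.exists_common hθ hF₀ hF₀3 hF₀S
  have hSM := sylow_le_normalizer h hθ hW hFU hFU3 hFUS
  -- every involution of `S` is conjugate in `N(W)` to a good one
  have hgood : ∀ x ∈ S, orderOf x = 2 → ∃ c ∈ normalizer (wCore FU : Set G),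
      c * x * c⁻¹ ∈ S ∧ Good S (c * x * c⁻¹) := fun x hxS hx => by
    obtain ⟨c, hc, hcS, hcg⟩ := h.exists_conj_good hO2 hF₀ hF₀3 hF₀S hxS hx
    exact ⟨c, centralizer_central_le h hθ hW hFU hFU3 hFUS hUFU hcon hc, hcS, hcg⟩
  have hset : Setting S (wCore FU) := ⟨(wCore_spec hθ hFU hFU3).1, fun x hxS hx => by
    obtain ⟨c, hc, hcS, hcg⟩ := hgood x hxS hx
    have h1 := core_le_of_good hθ hW (by rw [Involution.orderOf_conj, hx]) hcg
    have hinj : Function.Injective (MulAut.conj c).toMonoidHom := (MulAut.conj c).injective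
    apply map_injective hinj
    rw [Signalizer.map_conj_centralizerPPrimeCore, ← h1, map_inf _ _ _ hinj,
      show (wCore FU).map (MulAut.conj c).toMonoidHom = wCore FU from
        Solvable.mem_normalizer_iff_conj.1 hc]
    congr 1
    ext y
    constructor
    · rintro ⟨a, ha, rfl⟩
      exact mem_centralizer_singleton_iff.2 ((show Commute a x from
        mem_centralizer_singleton_iff.1 ha).map (MulAut.conj c).toMonoidHom).eq
    · intro hy
      refine ⟨c⁻¹ * y * c, mem_centralizer_singleton_iff.2 ?_, by simp [mul_assoc]⟩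
      have k := (show Commute y (c * x * c⁻¹) from mem_centralizer_singleton_iff.1 hy).map
        (MulAut.conj c⁻¹).toMonoidHom
      simp only [MulEquiv.coe_toMonoidHom, MulAut.conj_apply, inv_inv] at k
      rw [show c⁻¹ * (c * x * c⁻¹) * c = x by group] at k
      exact k.eq, hSM⟩
  refine hset.core_eq_bot hSE hO (fun x hxS hx => ?_) t ht
  obtain ⟨c, hc, hcS, hcg⟩ := hgood x hxS hx
  intro a ha
  have h1 : c * a * c⁻¹ ∈ normalizer (wCore FU : Set G) :=
    centralizer_good_le h hθ hW hFU hFU3 hFUS hUFU hcon hcS (by rw [Involution.orderOf_conj, hx]) hcg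
      (mem_centralizer_singleton_iff.2
        ((show Commute a x from mem_centralizer_singleton_iff.1 ha).map
          (MulAut.conj c).toMonoidHom).eq)
  simpa [mul_assoc] using mul_mem (mul_mem (inv_mem hc) h1) hc

end Cfsg.Agent.NonComponent
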