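import Cfsg.Prelude.Def_CaseTheorems
import Cfsg.Agent.Lib.Signalizer.Core
import Cfsg.Agent.Lib.Signalizer.LocalChar
import Cfsg.Agent.Lib.Components.GenFitting
import Cfsg.Agent.S1292
import Cfsg.Agent.EqLemmas

/-!
# Groups not of component type

* `isPConstrained_centralizer`, `isBalanced`: constrained involution centralisers, balance
* `isCharacteristicTwoType_of_cores_trivial`, `isCharacteristicTwoType_of_core_killing`
-/

set_option autoImplicit false

namespace Cfsg.Agent.NonComponent

open Subgroup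

variable {G : Type*} [Group G] [Finite G]

theorem isPConstrained_centralizer (hc : ¬ Cfsg.IsComponentType G) {t : G} (ht : orderOf t = 2) :
    Cfsg.IsPConstrained 2 ↥(centralizer ({t} : Set G)) := by
  haveI : Fact (Nat.Prime 2) := ⟨Nat.prime_two⟩
  set X := ↥(centralizer ({t} : Set G))
  set π := QuotientGroup.mk' (Cfsg.pPrimeCore 2 X)
  have hO : Cfsg.pPrimeCore 2 (X ⧸ Cfsg.pPrimeCore 2 X) = ⊥ := Cores.pPrimeCore_quotient_self 2
  have hE : Cfsg.layer (X ⧸ Cfsg.pPrimeCore 2 X) = ⊥ :=
    Components.layer_eq_bot_iff.2 fun K hK => hc ⟨t, ht, K, hK⟩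
  refine (Constrained.isPConstrained_of_map π (QuotientGroup.mk'_surjective _) ?_
    (Signalizer.isCharP_of_genFitting_eq (Components.genFitting_eq_pCore_of hE hO))).1
  rw [QuotientGroup.ker_mk']
  exact Cores.not_dvd_card_pPrimeCore

theorem isBalanced (hc : ¬ Cfsg.IsComponentType G) : Cfsg.IsBalanced G := by
  haveI : Fact (Nat.Prime 2) := ⟨Nat.prime_two⟩
  intro x y hx hy hxy
  have hx2 : x ^ 2 = 1 := hx ▸ pow_orderOf_eq_one x
  have hy2 : y ^ 2 = 1 := hy ▸ pow_orderOf_eq_one y
  refine le_antisymm (le_inf (Signalizer.core_inf_centralizer_le_core hx2 hxy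
    (isPConstrained_centralizer hc hy)) (inf_le_left.trans (Signalizer.core_le_centralizer x)))
    (le_inf (Signalizer.core_inf_centralizer_le_core hy2 hxy.symm
    (isPConstrained_centralizer hc hx)) (inf_le_left.trans (Signalizer.core_le_centralizer y)))

/-- Not of component type and trivial cores: characteristic two type. -/
theorem isCharacteristicTwoType_of_cores_trivial (heven : Even (Nat.card G))
    (hc : ¬ Cfsg.IsComponentType G)
    (h : ∀ t : G, orderOf t = 2 → Cfsg.centralizerPPrimeCore 2 t = ⊥) :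
    Cfsg.IsCharacteristicTwoType G := by
  haveI : Fact (Nat.Prime 2) := ⟨Nat.prime_two⟩
  refine ⟨heven, fun T hT hT1 => ?_⟩
  refine Signalizer.isCharP_of_genFitting_eq (S1292.result (fun t ht => ?_) T hT hT1)
  exact LocalCharP.generalizedFittingSubgroup_eq_pCore (Constrained.isCharP_iff.2
    ⟨isPConstrained_centralizer hc ht, (Subgroup.map_eq_bot_iff_of_injective _
      (centralizer ({t} : Set G)).subtype_injective).1 (h t ht)⟩)

theorem even_of_not_pRankLE (h3 : ¬ Cfsg.PRankLE 2 2 G) : Even (Nat.card G) := by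
  haveI : Fact (Nat.Prime 2) := ⟨Nat.prime_two⟩
  refine even_iff_two_dvd.2 (by_contra fun hn => h3 fun E hE hexp => ?_)
  have hE1 : E = ⊥ := (Subgroup.eq_bot_iff_forall _).2 fun x hx => by
    by_contra hx1
    exact hn ((orderOf_eq_prime (hexp x hx) hx1) ▸ orderOf_dvd_natCard x)
  rw [hE1, Subgroup.card_bot]; norm_num

/-- Core killing for balanced groups gives the characteristic two type. -/
theorem isCharacteristicTwoType_of_core_killing (h3 : ¬ Cfsg.PRankLE 2 2 G)
    (hc : ¬ Cfsg.IsComponentType G)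
    (hkill : Cfsg.IsBalanced G → ∀ t : G, orderOf t = 2 → Cfsg.centralizerPPrimeCore 2 t = ⊥) :
    Cfsg.IsCharacteristicTwoType G :=
  isCharacteristicTwoType_of_cores_trivial (even_of_not_pRankLE h3) hc (hkill (isBalanced hc))

end Cfsg.Agent.NonComponent
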