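import Cfsg.Agent.Lib.NonComponent.Basic
import Cfsg.Agent.Lib.NonComponent.Connected
import Cfsg.Agent.S0502

/-!
# Characteristic two type and trivial cores, given `O(H) ≤ O(G)` for strongly embedded `H`

* `isCharacteristicTwoType` : not of component type, connected, rank at least three (S0504)
* `cores_trivial_of_constrained_locals` : constrained 2-locals and `SCN₃(2)` (S3109)
-/

set_option autoImplicit false

namespace Cfsg.Agent.NonComponent

open Subgroup CoreKilling

variable {G : Type*} [Group G] [Finite G]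

theorem isCharacteristicTwoType
    (hSE : ∀ H : Subgroup G, Cfsg.IsStronglyEmbedded H →
      (Cfsg.oddCore ↥H).map H.subtype ≤ Cfsg.oddCore G)
    (h3 : ¬ Cfsg.PRankLE 2 2 G) (hO : Cfsg.oddCore G = ⊥) (hc : ¬ Cfsg.IsComponentType G)
    (S : Sylow 2 G) (hS : Cfsg.IsFourConnected ↥(S : Subgroup G)) :
    Cfsg.IsCharacteristicTwoType G :=
  isCharacteristicTwoType_of_cores_trivial (even_of_not_pRankLE h3) hc
    (core_eq_bot hSE hO h3 S hS fun _ ht => isPConstrained_centralizer hc ht)

theorem cores_trivial_of_constrained_locals [IsSimpleGroup G]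
    (hSE : ∀ H : Subgroup G, Cfsg.IsStronglyEmbedded H →
      (Cfsg.oddCore ↥H).map H.subtype ≤ Cfsg.oddCore G)
    (h2c : ∀ T : Subgroup G, IsPGroup 2 T → T ≠ ⊥ →
      Cfsg.IsPConstrained 2 ↥(normalizer (T : Set G)))
    (S : Sylow 2 G) (A : Subgroup ↥(S : Subgroup G)) (hAn : A.Normal)
    (hAab : IsMulCommutative ↥A) (hA3 : ¬ Cfsg.PRankLE 2 2 ↥A) (t : G) (ht : orderOf t = 2) :
    Cfsg.centralizerPPrimeCore 2 t = ⊥ := by
  haveI : Fact (Nat.Prime 2) := ⟨Nat.prime_two⟩
  haveI : A.Normal := hAn
  have hAs := hA3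
  simp only [Cfsg.PRankLE, not_forall, not_le] at hAs
  obtain ⟨B, hBc, hBe, hBcard⟩ := hAs
  have hrank : ¬ Cfsg.PRankLE 2 2 G := fun h => by
    have hf : Function.Injective ((S : Subgroup G).subtype.comp A.subtype) :=
      (S : Subgroup G).subtype_injective.comp A.subtype_injective
    have := h (B.map ((S : Subgroup G).subtype.comp A.subtype)) (haveI := hBc; inferInstance) (fun a ha => by
      obtain ⟨b, hb, rfl⟩ := ha
      rw [← map_pow, hBe b hb, map_one])
    rw [Subgroup.card_map_of_injective hf] at this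
    exact absurd this (not_le.2 hBcard)
  have hO : Cfsg.oddCore G = ⊥ := by
    refine (Cores.pPrimeCore_normal 2 G).eq_bot_or_eq_top.resolve_right fun h => ?_
    have h1 : ¬ 2 ∣ Nat.card (Cfsg.pPrimeCore 2 G) := Cores.not_dvd_card_pPrimeCore
    change Cfsg.pPrimeCore 2 G = ⊤ at h
    rw [h, Subgroup.card_top] at h1
    exact h1 (even_iff_two_dvd.1 (NonComponent.even_of_not_pRankLE hrank))
  have hcon : ∀ x : G, orderOf x = 2 → Cfsg.IsPConstrained 2 ↥(Subgroup.centralizer ({x} : Set G)) := by
    intro x hx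
    have h1 : Subgroup.centralizer ({x} : Set G) = Subgroup.normalizer (Subgroup.zpowers x : Set G) := by
      ext g
      rw [Subgroup.mem_centralizer_singleton_iff]
      constructor
      · exact fun hg => Subgroup.centralizer_le_normalizer _
          (Subgroup.mem_centralizer_iff.2 fun y hy => by
            obtain ⟨k, rfl⟩ := Subgroup.mem_zpowers_iff.1 hy
            exact ((Commute.zpow_right (show Commute g x from hg) k)).symm.eq)
      · intro hg
        have h2 := (Subgroup.mem_normalizer_iff.1 hg x).1 (Subgroup.mem_zpowers x)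
        obtain ⟨k, hk⟩ := Subgroup.mem_zpowers_iff.1 h2
        have hx2 : x ^ (2 : ℕ) = 1 := hx ▸ pow_orderOf_eq_one x
        rcases Int.even_or_odd' k with ⟨j, rfl | rfl⟩
        · rw [zpow_mul, zpow_ofNat, hx2, one_zpow] at hk
          have : x = 1 := by
            have := congrArg (fun y => g⁻¹ * y * g) hk
            simpa [mul_assoc] using this.symm
          exact absurd (this ▸ hx) (by simp)
        · rw [zpow_add_one, zpow_mul, zpow_ofNat, hx2, one_zpow, one_mul] at hk
          calc g * x = g * x * g⁻¹ * g := by group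
            _ = x * g := by rw [← hk]
    rw [h1]
    refine h2c (Subgroup.zpowers x) (IsPGroup.of_card (n := 1) (by rw [Nat.card_zpowers, hx, pow_one])) ?_
    rw [Ne, Subgroup.zpowers_eq_bot]
    exact fun h => by simp [h] at hx
  have hconn : Cfsg.IsFourConnected ↥(S : Subgroup G) := by
    let Ω : Subgroup ↥(S : Subgroup G) :=
      { carrier := {a | a ∈ A ∧ a ^ 2 = 1}
        one_mem' := ⟨A.one_mem, one_pow 2⟩
        mul_mem' := fun {a b} ha hb => ⟨A.mul_mem ha.1 hb.1, by
          rw [(show Commute a b from Signalizer.commute_of_isMulCommutative hAab ha.1 hb.1).mul_pow,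
            ha.2, hb.2, one_mul]⟩
        inv_mem' := fun {a} ha => ⟨A.inv_mem ha.1, by rw [inv_pow, ha.2, inv_one]⟩ }
    haveI : Ω.Normal := ⟨fun a ha g => ⟨hAn.conj_mem a ha.1 g, by rw [conj_pow, ha.2]; group⟩⟩
    have hBΩ : B.map A.subtype ≤ Ω := by
      rintro _ ⟨b, hb, rfl⟩
      exact ⟨b.2, by rw [← map_pow, hBe b hb, map_one]⟩
    refine S0502.result S.isPGroup' Ω ⟨⟨fun a b => Subtype.ext
      (Signalizer.commute_of_isMulCommutative hAab a.2.1 b.2.1)⟩⟩ (fun e he => he.2) ?_
    have hB8 : 8 ≤ Nat.card B := by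
      have hpg : IsPGroup 2 B := fun b => ⟨1, Subtype.ext (by simpa using hBe b b.2)⟩
      obtain ⟨n, hn⟩ := hpg.exists_card_eq
      have : 2 < n := (Nat.pow_lt_pow_iff_right one_lt_two).1 (hn ▸ hBcard)
      calc 8 = 2 ^ 3 := by norm_num
        _ ≤ 2 ^ n := Nat.pow_le_pow_right two_pos this
        _ = Nat.card B := hn.symm
    calc 8 ≤ Nat.card B := hB8
      _ = Nat.card (B.map A.subtype) := (Subgroup.card_map_of_injective A.subtype_injective).symm
      _ ≤ Nat.card Ω := Subgroup.card_le_of_le hBΩ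
  exact core_eq_bot hSE hO hrank S hconn hcon t ht

end Cfsg.Agent.NonComponent
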