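import Cfsg.Agent.Lib.NonComponent.AnySylow
import Cfsg.Agent.Lib.NonComponent.Consumers

/-!
# The dichotomy, given `O(H) ≤ O(G)` for strongly embedded `H`

`dichotomy` : a group of even order with `O(G) = 1` and no normal subgroup of index two has
2-rank at most two, component type or characteristic two type (S1296).
-/

set_option autoImplicit false

namespace Cfsg.Agent.NonComponent

open Subgroup CoreKilling

variable {G : Type*} [Group G] [Finite G]

theorem dichotomy
    (hSE : ∀ H : Subgroup G, Cfsg.IsStronglyEmbedded H →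
      (Cfsg.oddCore ↥H).map H.subtype ≤ Cfsg.oddCore G)
    (heven : Even (Nat.card G)) (hO2 : ∀ N : Subgroup G, N.Normal → N.index ≠ 2)
    (hO : Cfsg.oddCore G = ⊥) :
    Cfsg.PRankLE 2 2 G ∨ Cfsg.IsComponentType G ∨ Cfsg.IsCharacteristicTwoType G := by
  by_cases hr : Cfsg.PRankLE 2 2 G
  · exact Or.inl hr
  by_cases hc : Cfsg.IsComponentType G
  · exact Or.inr (Or.inl hc)
  exact Or.inr (Or.inr (isCharacteristicTwoType_of_cores_trivial heven hc
    (core_eq_bot_of_no_index_two hSE hO hO2 hr fun _ ht => isPConstrained_centralizer hc ht)))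

end Cfsg.Agent.NonComponent
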