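import Cfsg.Agent.Lib.Constrained.Basic
import Cfsg.Agent.Lib.Cores.Basic

/-!
# Odd subgroups inverted by an involution centralising a hyperplane of `O_2`

`eq_bot_of_hyperplane` : in characteristic two let `z = q ^ 2` be an involution centralising a
subgroup of index at most two of `O_2`; an odd subgroup normalised by `q` on which `z` has no
fixed point is trivial.
-/

set_option autoImplicit false

namespace Cfsg.Agent.NonComponent

open Subgroup
open scoped Pointwise

variable {Y : Type*} [Group Y] [Finite Y]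

/-- `d` centralises `r` once it fixes the coset `rH`, `H` centralised by `d` and of order prime to
that of `d`. -/
theorem commute_of_fix_coset {H : Subgroup Y} (hH : IsPGroup 2 H) {d r : Y}
    (hdH : ∀ h ∈ H, Commute d h) (hd : Odd (orderOf d)) (hr : r⁻¹ * (d * r * d⁻¹) ∈ H) :
    Commute d r := by
  set c := r⁻¹ * (d * r * d⁻¹) with hc
  have hdr : d * r * d⁻¹ = r * c := by rw [hc]; group
  have hiter : ∀ n : ℕ, d ^ n * r * (d ^ n)⁻¹ = r * c ^ n := by
    intro n
    induction n with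
    | zero => simp
    | succ n ih =>
      calc d ^ (n + 1) * r * (d ^ (n + 1))⁻¹ = d * (d ^ n * r * (d ^ n)⁻¹) * d⁻¹ := by group
        _ = d * (r * c ^ n) * d⁻¹ := by rw [ih]
        _ = d * r * d⁻¹ * (d * c ^ n * d⁻¹) := by group
        _ = r * c * c ^ n := by
          rw [hdr, ((hdH c hr).pow_right n).eq, mul_inv_cancel_right]
        _ = r * c ^ (n + 1) := by rw [mul_assoc, ← pow_succ']
  have hc1 : c = 1 := by
    have h := hiter (orderOf d)
    rw [pow_orderOf_eq_one] at h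
    simp only [one_mul, inv_one, mul_one] at h
    have h1 : c ^ orderOf d = 1 := (left_eq_mul.1 h)
    obtain ⟨k, hk⟩ := hH ⟨c, hr⟩
    have h2 : c ^ 2 ^ k = 1 := congrArg Subtype.val hk
    have hg := pow_gcd_eq_one.2 ⟨h1, h2⟩
    rw [Nat.Coprime.gcd_eq_one (Nat.Coprime.pow_right k
      ((Nat.prime_two.coprime_iff_not_dvd.2 (Nat.odd_iff.1 hd |> fun h => by omega)).symm)),
      pow_one] at hg
    exact hg
  rw [hc1, mul_one] at hdr
  exact mul_inv_eq_iff_eq_mul.1 hdr

theorem card_conj_inf_le {R R₁ : Subgroup Y} [R.Normal] (hle : R₁ ≤ R)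
    (hidx : Nat.card R ≤ 2 * Nat.card R₁) (a : Y) {H : Subgroup Y} (hH : H ≤ R) :
    Nat.card H ≤ 2 * Nat.card ↥(H ⊓ MulAut.conj a • R₁) := by
  set K := MulAut.conj a • R₁
  have hK : K ≤ R := by
    rintro _ ⟨r, hr, rfl⟩
    exact ‹R.Normal›.conj_mem r (hle hr) a
  have hKcard : Nat.card K = Nat.card R₁ :=
    card_map_of_injective (MulAut.conj a).injective
  have h1 : K.relIndex R ≤ 2 := by
    have := relIndex_mul_relIndex ⊥ K R bot_le hK
    rw [relIndex_bot_left, relIndex_bot_left, hKcard] at this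
    have hpos : 0 < Nat.card R₁ := Nat.card_pos
    rw [← this] at hidx
    rw [mul_comm 2] at hidx
    exact Nat.le_of_mul_le_mul_left hidx hpos
  have h2 : K.relIndex H ≤ 2 :=
    (relIndex_le_of_le_right hH Subgroup.index_ne_zero_of_finite).trans h1
  have h3 := relIndex_mul_relIndex ⊥ (H ⊓ K) H bot_le inf_le_left
  rw [relIndex_bot_left, relIndex_bot_left, inf_relIndex_left] at h3
  rw [← h3, mul_comm 2]
  exact Nat.mul_le_mul_left _ h2

theorem eq_bot_of_hyperplane (hY : Constrained.IsCharP 2 Y) {R₁ X : Subgroup Y} {q z : Y}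
    (hR : R₁ ≤ Cfsg.pCore 2 Y) (hidx : Nat.card (Cfsg.pCore 2 Y) ≤ 2 * Nat.card R₁)
    (hzR : ∀ r ∈ R₁, Commute z r) (hz : z * z = 1) (hq : q * q = z)
    (hX : Odd (Nat.card X)) (hqX : ∀ x ∈ X, q * x * q⁻¹ ∈ X)
    (hfix : ∀ x ∈ X, Commute z x → x = 1) : X = ⊥ := by
  haveI : Fact (Nat.Prime 2) := ⟨Nat.prime_two⟩
  set R := Cfsg.pCore 2 Y with hRdef
  haveI : R.Normal := Cores.pCore_normal 2 Y
  have hR2 : IsPGroup 2 R := Cores.isPGroup_pCore 2 Y
  have hodd : ∀ x ∈ X, Odd (orderOf x) := fun x hx =>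
    hX.of_dvd_nat (orderOf_dvd_natCard X hx)
  have hzi : z⁻¹ = z := inv_eq_of_mul_eq_one_right hz
  have hzX : ∀ x ∈ X, z * x * z ∈ X := fun x hx => by
    have := hqX _ (hqX x hx)
    rwa [show q * (q * x * q⁻¹) * q⁻¹ = q * q * x * (q * q)⁻¹ by group, hq, hzi] at this
  -- `z` inverts `X`
  have hinv : ∀ x ∈ X, z * x * z = x⁻¹ := by
    let f : X → X := fun x => ⟨(x : Y)⁻¹ * (z * x * z), X.mul_mem (inv_mem x.2) (hzX x x.2)⟩
    have hf : Function.Injective f := fun x y h => by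
      have h' : (x : Y)⁻¹ * (z * x * z) = (y : Y)⁻¹ * (z * y * z) := congrArg Subtype.val h
      refine Subtype.ext (mul_inv_eq_one.1 (hfix _ (X.mul_mem x.2 (inv_mem y.2)) ?_))
      show z * ((x : Y) * (y : Y)⁻¹) = (x : Y) * (y : Y)⁻¹ * z
      calc z * ((x : Y) * (y : Y)⁻¹)
          = (x : Y) * ((x : Y)⁻¹ * (z * x * z)) * z⁻¹ * (y : Y)⁻¹ := by group
        _ = (x : Y) * ((y : Y)⁻¹ * (z * y * z)) * z⁻¹ * (y : Y)⁻¹ := by rw [h']
        _ = (x : Y) * (y : Y)⁻¹ * z := by group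
    intro x hx
    obtain ⟨w, hw⟩ := (Finite.injective_iff_surjective.1 hf) ⟨x, hx⟩
    have hw' : (w : Y)⁻¹ * (z * w * z) = x := congrArg Subtype.val hw
    rw [← hw']
    calc z * ((w : Y)⁻¹ * (z * w * z)) * z = z * (w : Y)⁻¹ * z * w * (z * z) := by group
      _ = z * (w : Y)⁻¹ * z⁻¹ * w := by rw [hz, mul_one, hzi]
      _ = ((w : Y)⁻¹ * (z * w * z))⁻¹ := by rw [mul_inv_rev, mul_inv_rev, mul_inv_rev, hzi]; group
  have hcomm : ∀ a ∈ X, ∀ b ∈ X, Commute a b := fun a ha b hb => by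
    have h := hinv _ (X.mul_mem ha hb)
    have h2 : z * (a * b) * z = a⁻¹ * b⁻¹ := by
      rw [← hinv a ha, ← hinv b hb]
      calc z * (a * b) * z = z * a * (z * z) * b * z := by rw [hz, mul_one, mul_assoc z a b]
        _ = z * a * z * (z * b * z) := by group
    have h3 : (a * b)⁻¹ = (b * a)⁻¹ := by rw [← h, h2, mul_inv_rev b a]
    exact inv_inj.1 h3
  -- each element of `X` centralises the intersection of two hyperplanes
  have hN : ∀ a ∈ X, ∀ r ∈ R₁ ⊓ MulAut.conj a • R₁, Commute a r := by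
    intro a ha r hr
    obtain ⟨s, hs, hsr⟩ := hr.2
    have h1 : Commute z r := hzR r hr.1
    have h2 : Commute (a * z * a⁻¹) r := by
      rw [← hsr]
      show Commute (a * z * a⁻¹) (a * s * a⁻¹)
      exact (hzR s hs).map (MulAut.conj a).toMonoidHom
    have h3 : Commute (a ^ 2) r := by
      have := h2.mul_left h1
      have heq : a * z * a⁻¹ * z = a ^ 2 := by
        have h4 := hinv _ (inv_mem ha)
        rw [inv_inv] at h4
        calc a * z * a⁻¹ * z = a * (z * a⁻¹ * z) := by group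
          _ = a ^ 2 := by rw [h4, pow_two]
      rwa [heq] at this
    obtain ⟨m, hm⟩ := hodd a ha
    have : a = ((a ^ 2) ^ (m + 1)) := by
      rw [← pow_mul, show 2 * (m + 1) = orderOf a + 1 by omega, pow_succ, pow_orderOf_eq_one, one_mul]
    rw [this]
    exact h3.pow_left _
  have hRfix : ∀ d ∈ X, (∀ r ∈ R, Commute d r) → d = 1 := fun d hd h => by
    have hdR : d ∈ R := hY (mem_centralizer_iff.2 fun r hr => (h r hr).symm.eq)
    obtain ⟨k, hk⟩ := hR2 ⟨d, hdR⟩
    have h1 : d ^ 2 ^ k = 1 := congrArg Subtype.val hk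
    have hg := pow_gcd_eq_one.2 ⟨pow_orderOf_eq_one d, h1⟩
    rw [Nat.Coprime.gcd_eq_one (Nat.Coprime.pow_right k
      ((Nat.prime_two.coprime_iff_not_dvd.2 (by
        have := Nat.odd_iff.1 (hodd d hd); omega)).symm)), pow_one] at hg
    exact hg
  -- every element of `X` has order dividing three
  have hexp : ∀ a ∈ X, a ^ 3 = 1 := by
    intro a ha
    refine hRfix _ (pow_mem ha 3) fun r hr => ?_
    set H := R₁ ⊓ MulAut.conj a • R₁ with hH
    have hHp : IsPGroup 2 H := hR2.to_le (inf_le_left.trans hR)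
    have hHR : H ≤ R := inf_le_left.trans hR
    have hc : Nat.card R ≤ 4 * Nat.card H := by
      have := card_conj_inf_le hR hidx a hR
      rw [← hH] at this
      omega
    have hidx4 : (H.subgroupOf R).index ≤ 4 := by
      have h := (H.subgroupOf R).card_mul_index
      rw [Cores.card_subgroupOf hHR] at h
      have hpos : 0 < Nat.card H := Nat.card_pos
      nlinarith
    let φ : Fin 5 → ↥R ⧸ H.subgroupOf R := fun k =>
      QuotientGroup.mk ⟨a ^ (k : ℕ) * r * (a ^ (k : ℕ))⁻¹, ‹R.Normal›.conj_mem r hr _⟩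
    obtain ⟨i, j, hij, hφ⟩ : ∃ i j : Fin 5, (i : ℕ) < j ∧ φ i = φ j := by
      haveI := Fintype.ofFinite (↥R ⧸ H.subgroupOf R)
      obtain ⟨i, j, hne, he⟩ := Fintype.exists_ne_map_eq_of_card_lt φ (by
        rw [Fintype.card_fin, ← Nat.card_eq_fintype_card, ← index_eq_card]; omega)
      rcases lt_or_gt_of_ne (fun h : (i : ℕ) = j => hne (Fin.ext h)) with h | h
      · exact ⟨i, j, h, he⟩
      · exact ⟨j, i, h, he.symm⟩
    have hmem : (a ^ (i : ℕ) * r * (a ^ (i : ℕ))⁻¹)⁻¹ * (a ^ (j : ℕ) * r * (a ^ (j : ℕ))⁻¹) ∈ H :=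
      mem_subgroupOf.1 (QuotientGroup.eq.1 hφ)
    have hHa : ∀ h ∈ H, Commute a h := hN a ha
    set k := (j : ℕ) - i with hk
    have hj : (j : ℕ) = i + k := by omega
    have hmem' : r⁻¹ * (a ^ k * r * (a ^ k)⁻¹) ∈ H := by
      have h1 : (a ^ (i : ℕ)) * (r⁻¹ * (a ^ k * r * (a ^ k)⁻¹)) * (a ^ (i : ℕ))⁻¹ ∈ H := by
        rw [hj, pow_add] at hmem
        convert hmem using 1
        group
      have := ((hHa _ h1).pow_left (i : ℕ)).eq
      generalize r⁻¹ * (a ^ k * r * (a ^ k)⁻¹) = u at h1 this ⊢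
      have h2 : a ^ (i : ℕ) * u * (a ^ (i : ℕ))⁻¹ = u := by
        have h3 : a ^ (i : ℕ) * (a ^ (i : ℕ) * u * (a ^ (i : ℕ))⁻¹) = a ^ (i : ℕ) * u := by
          rw [this]; group
        exact mul_left_cancel h3
      rwa [h2] at h1
    have hak : Commute (a ^ k) r := commute_of_fix_coset hHp
      (fun h hh => (hHa h hh).pow_left k) (hodd _ (pow_mem ha k)) hmem'
    obtain ⟨m, hm⟩ := hodd a ha
    have hk4 : k = 1 ∨ k = 2 ∨ k = 3 ∨ k = 4 := by have := j.isLt; omega
    have hgo : ∀ n, a ^ 3 = (a ^ k) ^ n → Commute (a ^ 3) r := fun n hn => hn ▸ hak.pow_left n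
    rcases hk4 with h | h | h | h <;> rw [h] at hgo
    · exact hgo 3 (by rw [pow_one])
    · exact hgo (3 * (m + 1)) (by
        rw [← pow_mul, show 2 * (3 * (m + 1)) = orderOf a * 3 + 3 by omega, pow_add, pow_mul,
          pow_orderOf_eq_one, one_pow, one_mul])
    · exact hgo 1 (by rw [pow_one])
    · exact hgo (3 * (m + 1) * (m + 1)) (by
        rw [← pow_mul, show 4 * (3 * (m + 1) * (m + 1)) = orderOf a * (3 * orderOf a + 6) + 3 by
          rw [hm]; ring, pow_add, pow_mul, pow_orderOf_eq_one, one_pow, one_mul])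
  refine (Subgroup.eq_bot_iff_forall _).2 fun a ha => ?_
  by_contra ha1
  set b := q * a * q⁻¹ with hbdef
  have hb : b ∈ X := hqX a ha
  have hqb : q * b * q⁻¹ = a⁻¹ := by
    rw [hbdef, ← hinv a ha]
    calc q * (q * a * q⁻¹) * q⁻¹ = q * q * a * (q * q)⁻¹ := by group
      _ = z * a * z := by rw [hq, hzi]
  have ha3 := hexp a ha
  have hb3 := hexp b hb
  have hab := hcomm a ha b hb
  -- `b` is not a power of `a`
  have hindep : ∀ i < 3, b ≠ a ^ i := by
    intro i hi hbi
    have hqi : q * a ^ i * q⁻¹ = (a ^ i) ^ i := by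
      rw [← conj_pow, ← hbdef, hbi]
    have h2 : a⁻¹ = (a ^ i) ^ i := by rw [← hqb, hbi, hqi]
    have h3 : a ^ (i * i + 1) = 1 := by rw [pow_succ, pow_mul, ← h2, inv_mul_cancel]
    have hord : orderOf a = 3 := orderOf_eq_prime ha3 ha1
    have h4 := orderOf_dvd_of_pow_eq_one h3
    rw [hord] at h4
    interval_cases i <;> omega
  -- the nine elements of `⟨a, b⟩`
  have hinj : ∀ i j k l : Fin 3, a ^ (i : ℕ) * b ^ (j : ℕ) = a ^ (k : ℕ) * b ^ (l : ℕ) →
      i = k ∧ j = l := by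
    have hord : orderOf a = 3 := orderOf_eq_prime ha3 ha1
    have key : ∀ s t : ℕ, t % 3 ≠ 0 → a ^ s * b ^ t ≠ 1 := by
      intro s t ht h
      have hb' : b = a ^ (s * (3 - t % 3) * 1 % 3) ∨ b = a ^ (2 * s % 3) ∨ b = a ^ (s % 3) := by
        have h1 : b ^ t = (a ^ s)⁻¹ := eq_inv_of_mul_eq_one_right h
        have h2 : (a ^ s)⁻¹ = a ^ (2 * s) := inv_eq_of_mul_eq_one_right (by
          rw [← pow_add, show s + 2 * s = 3 * s by ring, pow_mul, ha3, one_pow])
        have hbt : b ^ t = b ^ (t % 3) := by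
          conv_lhs => rw [← Nat.div_add_mod t 3, pow_add, pow_mul, hb3, one_pow, one_mul]
        have hmod : ∀ e, a ^ e = a ^ (e % 3) := fun e => by
          conv_lhs => rw [← Nat.div_add_mod e 3, pow_add, pow_mul, ha3, one_pow, one_mul]
        rcases (show t % 3 = 1 ∨ t % 3 = 2 by omega) with ht1 | ht1
        · right; left
          rw [← hmod, ← h2, ← h1, hbt, ht1, pow_one]
        · right; right
          have h5 : b = (b ^ 2) ^ 2 := by
            rw [← pow_mul, show 2 * 2 = 3 + 1 by rfl, pow_succ, hb3, one_mul]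
          rw [← hmod, h5, show b ^ 2 = b ^ t by rw [hbt, ht1], h1, h2, ← pow_mul,
            show 2 * s * 2 = 3 * s + s by ring, pow_add, pow_mul, ha3, one_pow, one_mul]
      rcases hb' with h' | h' | h' <;> exact hindep _ (Nat.mod_lt _ (by norm_num)) h'
    intro i j k l h
    by_cases hjl : j = l
    · refine ⟨?_, hjl⟩
      rw [hjl] at h
      exact Fin.ext (pow_injOn_Iio_orderOf (by simp [hord]) (by simp [hord]) (mul_right_cancel h))
    · exfalso
      refine key (i + (3 - (k : ℕ))) (j + (3 - (l : ℕ))) (fun h0 => hjl (Fin.ext ?_)) ?_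
      · have := j.isLt; have := l.isLt; omega
      · have hk' : a ^ (k : ℕ) * b ^ (l : ℕ) * (a ^ (3 - (k : ℕ)) * b ^ (3 - (l : ℕ))) = 1 := by
          rw [mul_assoc, ← mul_assoc (b ^ (l : ℕ)), ((hab.symm).pow_pow _ _).eq, mul_assoc,
            ← mul_assoc, ← pow_add, ← pow_add, Nat.add_sub_cancel' k.isLt.le,
            Nat.add_sub_cancel' l.isLt.le, ha3, hb3, one_mul]
        rw [← h] at hk'
        rw [← hk', pow_add, pow_add, mul_assoc, mul_assoc, ← mul_assoc (a ^ (3 - (k : ℕ))),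
          ← mul_assoc (b ^ (j : ℕ)), (hab.symm.pow_pow _ _).eq]
  -- every element of `R` is centralised by one of four elements
  set H := (R₁ ⊓ MulAut.conj a • R₁) ⊓ MulAut.conj b • R₁ with hH
  have hHp : IsPGroup 2 H := hR2.to_le ((inf_le_left.trans inf_le_left).trans hR)
  have hHR : H ≤ R := (inf_le_left.trans inf_le_left).trans hR
  have hHd : ∀ (i j : ℕ), ∀ h ∈ H, Commute (a ^ i * b ^ j) h := fun i j h hh =>
    ((hN a ha h hh.1).pow_left i).mul_left ((hN b hb h ⟨hh.1.1, hh.2⟩).pow_left j)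
  have hidx8 : (H.subgroupOf R).index ≤ 8 := by
    have h1 := card_conj_inf_le hR hidx a hR
    have h2 := card_conj_inf_le hR hidx b (show R₁ ⊓ MulAut.conj a • R₁ ≤ R from inf_le_left.trans hR)
    have h := (H.subgroupOf R).card_mul_index
    rw [Cores.card_subgroupOf hHR] at h
    have hpos : 0 < Nat.card H := Nat.card_pos
    nlinarith
  let rep : Fin 4 → Y := ![a, b, a * b, a * b ^ 2]
  have hrep : ∀ n, rep n ∈ X ∧ rep n ≠ 1 := by
    have h1 := hinj 1 0 0 0
    have h2 := hinj 0 1 0 0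
    have h3 := hinj 1 1 0 0
    have h4 := hinj 1 2 0 0
    simp at h1 h2 h3 h4
    intro n; fin_cases n <;>
      simp only [rep, Fin.zero_eta, Fin.mk_one, Fin.reduceFinMk, Matrix.cons_val]
    · exact ⟨ha, h1⟩
    · exact ⟨hb, h2⟩
    · exact ⟨X.mul_mem ha hb, h3⟩
    · exact ⟨X.mul_mem ha (pow_mem hb 2), h4⟩
  have hcover : ∀ r ∈ R, ∃ n, Commute (rep n) r := by
    intro r hr
    let φ : Fin 3 × Fin 3 → ↥R ⧸ H.subgroupOf R := fun p =>
      QuotientGroup.mk ⟨a ^ (p.1 : ℕ) * b ^ (p.2 : ℕ) * r * (a ^ (p.1 : ℕ) * b ^ (p.2 : ℕ))⁻¹,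
        ‹R.Normal›.conj_mem r hr _⟩
    haveI := Fintype.ofFinite (↥R ⧸ H.subgroupOf R)
    obtain ⟨p, p', hne, he⟩ := Fintype.exists_ne_map_eq_of_card_lt φ (by
      rw [Fintype.card_prod, Fintype.card_fin, ← Nat.card_eq_fintype_card, ← index_eq_card]; omega)
    set g := a ^ (p.1 : ℕ) * b ^ (p.2 : ℕ) with hg
    set g' := a ^ (p'.1 : ℕ) * b ^ (p'.2 : ℕ) with hg'
    have hmem : (g * r * g⁻¹)⁻¹ * (g' * r * g'⁻¹) ∈ H := mem_subgroupOf.1 (QuotientGroup.eq.1 he)
    have hgX : g ∈ X := X.mul_mem (pow_mem ha _) (pow_mem hb _)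
    have hg'X : g' ∈ X := X.mul_mem (pow_mem ha _) (pow_mem hb _)
    set d := g⁻¹ * g' with hd
    have hdH : ∀ h ∈ H, Commute d h := fun h hh => ((hHd _ _ h hh).inv_left).mul_left (hHd _ _ h hh)
    have hd1 : d ≠ 1 := fun h => hne (by
      obtain ⟨h1, h2⟩ := hinj _ _ _ _ (inv_mul_eq_one.1 h)
      exact Prod.ext h1 h2)
    have hdX : d ∈ X := X.mul_mem (inv_mem hgX) hg'X
    have hdr : Commute d r := by
      refine commute_of_fix_coset hHp hdH (hodd _ hdX) ?_
      have h1 : g * (r⁻¹ * (d * r * d⁻¹)) * g⁻¹ ∈ H := by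
        convert hmem using 1
        rw [hd]; group
      have h2 : g * (r⁻¹ * (d * r * d⁻¹)) * g⁻¹ = r⁻¹ * (d * r * d⁻¹) := by
        have h3 := (hHd (p.1 : ℕ) (p.2 : ℕ) _ h1).eq
        rw [← hg] at h3
        generalize r⁻¹ * (d * r * d⁻¹) = u at h1 h3 ⊢
        have h4 : g * (g * u * g⁻¹) = g * u := by rw [h3]; group
        exact mul_left_cancel h4
      rwa [h2] at h1
    -- `d` or `d⁻¹` is one of the four representatives
    obtain ⟨i, j, hdij⟩ : ∃ i j : ℕ, d = a ^ i * b ^ j := by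
      refine ⟨2 * (p.1 : ℕ) + p'.1, 2 * (p.2 : ℕ) + p'.2, ?_⟩
      have hga : g⁻¹ = a ^ (2 * (p.1 : ℕ)) * b ^ (2 * (p.2 : ℕ)) := by
        refine inv_eq_of_mul_eq_one_right ?_
        rw [hg, mul_assoc, ← mul_assoc (b ^ (p.2 : ℕ)), (hab.symm.pow_pow _ _).eq, mul_assoc,
          ← mul_assoc, ← pow_add, ← pow_add, show (p.1 : ℕ) + 2 * p.1 = 3 * p.1 by ring,
          show (p.2 : ℕ) + 2 * p.2 = 3 * p.2 by ring, pow_mul, pow_mul, ha3, hb3, one_pow, one_pow,
          one_mul]
      rw [hd, hga, hg', pow_add, pow_add, mul_assoc, mul_assoc,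
        ← mul_assoc (b ^ (2 * (p.2 : ℕ))), (hab.symm.pow_pow _ _).eq, mul_assoc]
    have hmod : ∀ (c : Y), c ^ 3 = 1 → ∀ e, c ^ e = c ^ (e % 3) := fun c hc e => by
      conv_lhs => rw [← Nat.div_add_mod e 3, pow_add, pow_mul, hc, one_pow, one_mul]
    rw [hmod a ha3, hmod b hb3 j] at hdij
    have hd2 : d⁻¹ = a ^ (2 * (i % 3)) * b ^ (2 * (j % 3)) := by
      refine inv_eq_of_mul_eq_one_right ?_
      rw [hdij, mul_assoc, ← mul_assoc (b ^ (j % 3)), (hab.symm.pow_pow _ _).eq, mul_assoc,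
        ← mul_assoc, ← pow_add, ← pow_add, show i % 3 + 2 * (i % 3) = 3 * (i % 3) by ring,
        show j % 3 + 2 * (j % 3) = 3 * (j % 3) by ring, pow_mul, pow_mul, ha3, hb3, one_pow,
        one_pow, one_mul]
    rw [hmod a ha3, hmod b hb3 (2 * (j % 3))] at hd2
    have hi3 := Nat.mod_lt i (show 3 > 0 by norm_num)
    have hj3 := Nat.mod_lt j (show 3 > 0 by norm_num)
    generalize i % 3 = i' at hdij hd2 hi3
    generalize j % 3 = j' at hdij hd2 hj3
    interval_cases i' <;> interval_cases j' <;> norm_num at hdij hd2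
    · exact absurd hdij hd1
    · exact ⟨1, by show Commute b r; rwa [← hdij]⟩
    · exact ⟨1, by show Commute b r; rw [← hd2]; exact hdr.inv_left⟩
    · exact ⟨0, by show Commute a r; rwa [← hdij]⟩
    · exact ⟨2, by show Commute (a * b) r; rwa [← hdij]⟩
    · exact ⟨3, by show Commute (a * b ^ 2) r; rwa [← hdij]⟩
    · exact ⟨0, by show Commute a r; rw [← hd2]; exact hdr.inv_left⟩
    · exact ⟨3, by show Commute (a * b ^ 2) r; rw [← hd2]; exact hdr.inv_left⟩
    · exact ⟨2, by show Commute (a * b) r; rw [← hd2]; exact hdr.inv_left⟩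
  -- each centraliser has index at least four
  let C : Fin 4 → Subgroup Y := fun n => R ⊓ centralizer ({rep n} : Set Y)
  have hC4 : ∀ n, 4 * Nat.card (C n) ≤ Nat.card R := by
    intro n
    set d := rep n
    obtain ⟨hdX, hd1⟩ := hrep n
    have hCR : C n ≤ R := inf_le_left
    have hidx3 : 3 ≤ ((C n).subgroupOf R).index := by
      by_contra hlt
      refine hd1 (hRfix d hdX fun r hr => ?_)
      have hCd : ∀ h ∈ C n, Commute d h := fun h hh =>
        (mem_centralizer_singleton_iff.1 hh.2).symm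
      by_cases hrC : r ∈ C n
      · exact hCd r hrC
      have hr' : (⟨d * r * d⁻¹, ‹R.Normal›.conj_mem r hr d⟩ : R) ∉ (C n).subgroupOf R := by
        intro h
        have h1 : d * r * d⁻¹ ∈ C n := mem_subgroupOf.1 h
        have h2 : d * r * d⁻¹ = r := by
          have h3 := (hCd _ h1).eq
          have h4 : d * (d * r * d⁻¹) = d * r := by rw [h3]; group
          exact mul_left_cancel h4
        exact hrC (h2 ▸ h1)
      have h2 : ((C n).subgroupOf R).index = 2 := by
        have := ((C n).subgroupOf R).index_ne_zero_of_finite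
        have : ((C n).subgroupOf R).index ≠ 1 := fun h => hrC (by
          have h5 := index_eq_one.1 h
          exact mem_subgroupOf.1 (h5 ▸ mem_top (⟨r, hr⟩ : R)))
        omega
      have h3 := (mul_mem_iff_of_index_two h2 (a := (⟨r, hr⟩ : R)⁻¹)
        (b := ⟨d * r * d⁻¹, ‹R.Normal›.conj_mem r hr d⟩)).2
        (iff_of_false (fun h => hrC (mem_subgroupOf.1 (inv_mem_iff.1 h))) hr')
      exact commute_of_fix_coset (hR2.to_le hCR) hCd (hodd d hdX) (mem_subgroupOf.1 h3)
    obtain ⟨k, hk⟩ := hR2.index ((C n).subgroupOf R)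
    have h4 : 4 ≤ ((C n).subgroupOf R).index := by
      rw [hk] at hidx3 ⊢
      rcases k with _ | _ | k
      · omega
      · omega
      · calc 4 = 2 ^ 2 := by norm_num
          _ ≤ _ := Nat.pow_le_pow_right two_pos (by omega)
    have h := ((C n).subgroupOf R).card_mul_index
    rw [Cores.card_subgroupOf hCR] at h
    rw [← h, mul_comm]
    exact Nat.mul_le_mul_left _ h4
  -- counting
  classical
  let E : Finset Y := (R : Set Y).toFinite.toFinset
  let Cs : Fin 4 → Finset Y := fun n => ((C n : Set Y).toFinite.toFinset).erase 1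
  have hsub : E.erase 1 ⊆ Finset.univ.biUnion Cs := by
    intro r hr
    simp only [E, Finset.mem_erase, Set.Finite.mem_toFinset, SetLike.mem_coe] at hr
    obtain ⟨n, hn⟩ := hcover r hr.2
    simp only [Cs, Finset.mem_biUnion, Finset.mem_univ, true_and, Finset.mem_erase,
      Set.Finite.mem_toFinset, SetLike.mem_coe]
    exact ⟨n, hr.1, hr.2, mem_centralizer_singleton_iff.2 hn.symm⟩
  have hsum := (Finset.card_le_card hsub).trans Finset.card_biUnion_le
  have hE : (E.erase 1).card = Nat.card R - 1 := by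
    rw [Finset.card_erase_of_mem (by simp [E, one_mem]), ← Set.ncard_eq_toFinset_card,
      ← Nat.card_coe_set_eq]
    rfl
  have hCs : ∀ n, (Cs n).card = Nat.card (C n) - 1 := fun n => by
    rw [Finset.card_erase_of_mem (by simp [one_mem]), ← Set.ncard_eq_toFinset_card,
      ← Nat.card_coe_set_eq]
    rfl
  rw [hE, Fin.sum_univ_four, hCs, hCs, hCs, hCs] at hsum
  have := hC4 0; have := hC4 1; have := hC4 2; have := hC4 3
  have : 1 ≤ Nat.card (C 0) := Nat.card_pos
  have : 1 ≤ Nat.card (C 1) := Nat.card_pos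
  have : 1 ≤ Nat.card (C 2) := Nat.card_pos
  have : 1 ≤ Nat.card (C 3) := Nat.card_pos
  omega

end Cfsg.Agent.NonComponent
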