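import Cfsg.Agent.Lib.NonComponent.Hyperplane
import Cfsg.Agent.Lib.Signalizer.Core

/-!
# Odd subgroups of the centraliser of an involution, centralised-hyperplane version

`inf_centralizer_le_core` : if `W ⊓ C(z) ≤ O(C(z))`, `z = q ^ 2` with `q ∈ C(v)` normalising `W`,
and `z` centralises a 2-subgroup of `C(v)` of half the Sylow order, then `W ⊓ C(v) ≤ O(C(v))` for
2-constrained `C(v)`.
-/

set_option autoImplicit false

namespace Cfsg.Agent.NonComponent

open Subgroup
open scoped Pointwise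

variable {G : Type*} [Group G] [Finite G]

theorem inf_centralizer_le_core (S : Sylow 2 G) {W T₁ : Subgroup G} {z v q : G}
    (hW : ¬ 2 ∣ Nat.card W) (hWz : W ⊓ centralizer ({z} : Set G) ≤ Cfsg.centralizerPPrimeCore 2 z)
    (hz : z * z = 1) (hq : q * q = z) (hqv : Commute q v)
    (hcon : Cfsg.IsPConstrained 2 ↥(centralizer ({v} : Set G)))
    (hqW : ∀ w ∈ W, q * w * q⁻¹ ∈ W) (hT : IsPGroup 2 T₁)
    (hTv : T₁ ≤ centralizer ({v} : Set G)) (hTz : ∀ t ∈ T₁, Commute z t)
    (hcard : Nat.card (S : Subgroup G) ≤ 2 * Nat.card T₁) :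
    W ⊓ centralizer ({v} : Set G) ≤ Cfsg.centralizerPPrimeCore 2 v := by
  haveI : Fact (Nat.Prime 2) := ⟨Nat.prime_two⟩
  set C := centralizer ({v} : Set G) with hC
  set O := Cfsg.pPrimeCore 2 ↥C with hO
  haveI : O.Normal := Cores.pPrimeCore_normal 2 ↥C
  set π := QuotientGroup.mk' O with hπ
  have hker : ∀ a : C, π a = 1 ↔ a ∈ O := fun a => QuotientGroup.eq_one_iff a
  have hY : Constrained.IsCharP 2 (↥C ⧸ O) := Constrained.isPConstrained_iff.mp hcon
  have hqC : q ∈ C := mem_centralizer_singleton_iff.2 hqv.eq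
  have hzC : z ∈ C := hq ▸ C.mul_mem hqC hqC
  have hzi : z⁻¹ = z := inv_eq_of_mul_eq_one_right hz
  -- the hyperplane of `O_2`
  obtain ⟨T, hTle⟩ := (hT.comap_of_injective C.subtype C.subtype_injective).exists_le_sylow
  have hinj : ∀ (P : Subgroup C), IsPGroup 2 P → Nat.card (P.map π) = Nat.card P := by
    intro P hP
    let f := π.comp P.subtype
    have hf : Function.Injective f := by
      rw [injective_iff_map_eq_one]
      intro a ha
      obtain ⟨k, hk⟩ := hP a
      have h2 : orderOf (a : C) ∣ 2 ^ k :=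
        orderOf_dvd_of_pow_eq_one (congrArg Subtype.val hk)
      have h3 : orderOf (a : C) ∣ Nat.card O := orderOf_dvd_natCard O ((hker _).1 ha)
      have hcop : (2 ^ k).Coprime (Nat.card O) :=
        Nat.Coprime.pow_left k ((Nat.prime_two.coprime_iff_not_dvd).2 Cores.not_dvd_card_pPrimeCore)
      exact Subtype.ext (orderOf_eq_one_iff.1 (Nat.eq_one_of_dvd_one
        (hcop ▸ Nat.dvd_gcd h2 h3)))
    rw [show P.map π = f.range by rw [MonoidHom.range_comp, range_subtype]]
    exact (Nat.card_congr (MonoidHom.ofInjective hf).toEquiv).symm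
  set R := Cfsg.pCore 2 (↥C ⧸ O) with hR
  set P := T.mapSurjective (QuotientGroup.mk'_surjective O) with hP
  have hRP : R ≤ (P : Subgroup (↥C ⧸ O)) := Cores.pCore_le_sylow P
  set P₁ := (T₁.subgroupOf C).map π with hP₁
  have hP₁P : P₁ ≤ (P : Subgroup (↥C ⧸ O)) := map_mono hTle
  have hcardP : Nat.card (P : Subgroup (↥C ⧸ O)) ≤ 2 * Nat.card P₁ := by
    rw [hP₁, hinj _ (show IsPGroup 2 (T₁.subgroupOf C) from hT.comap_subtype), Cores.card_subgroupOf hTv]
    refine le_trans (le_of_eq (hinj _ T.isPGroup')) (le_trans ?_ hcard)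
    obtain ⟨Q, hQ⟩ := (T.isPGroup'.map C.subtype).exists_le_sylow
    refine le_of_eq_of_le (Cores.card_map_subtype (K := (T : Subgroup C))).symm ((card_le_of_le hQ).trans ?_)
    exact le_of_eq (Nat.card_congr (Sylow.equiv Q S).toEquiv)
  have hidx : Nat.card R ≤ 2 * Nat.card ↥(R ⊓ P₁) := by
    have h1 := relIndex_mul_relIndex ⊥ P₁ (P : Subgroup (↥C ⧸ O)) bot_le hP₁P
    rw [relIndex_bot_left, relIndex_bot_left] at h1
    have h2 : P₁.relIndex (P : Subgroup (↥C ⧸ O)) ≤ 2 := by
      rw [← h1, mul_comm 2] at hcardP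
      exact Nat.le_of_mul_le_mul_left hcardP Nat.card_pos
    have h3 : (R ⊓ P₁).relIndex R ≤ 2 := by
      rw [inf_relIndex_left]
      exact (relIndex_le_of_le_right hRP Subgroup.index_ne_zero_of_finite).trans h2
    have h4 := relIndex_mul_relIndex ⊥ (R ⊓ P₁) R bot_le inf_le_left
    rw [relIndex_bot_left, relIndex_bot_left] at h4
    rw [← h4, mul_comm 2]
    exact Nat.mul_le_mul_left _ h3
  -- the odd subgroup
  set X := ((W ⊓ C).subgroupOf C).map π with hX
  have hWodd : Odd (Nat.card W) := Nat.not_even_iff_odd.1 fun h => hW (even_iff_two_dvd.1 h)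
  have hX1 : X = ⊥ := by
    refine eq_bot_of_hyperplane hY (R₁ := R ⊓ P₁) (q := π ⟨q, hqC⟩) (z := π ⟨z, hzC⟩)
      inf_le_left hidx ?_ ?_ ?_ ?_ ?_ ?_
    · intro r hr
      obtain ⟨t, ht, rfl⟩ := hr.2
      exact (show Commute (⟨z, hzC⟩ : C) t from Subtype.ext (hTz _ ht).eq).map π
    · rw [← map_mul, show (⟨z, hzC⟩ : C) * ⟨z, hzC⟩ = 1 from Subtype.ext hz, map_one]
    · rw [← map_mul]; exact congrArg π (Subtype.ext hq)
    · refine hWodd.of_dvd_nat ((card_map_dvd _ π).trans ?_)
      rw [Cores.card_subgroupOf inf_le_right]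
      exact card_dvd_of_le inf_le_left
    · rintro _ ⟨w, hw, rfl⟩
      exact ⟨⟨q, hqC⟩ * w * ⟨q, hqC⟩⁻¹, ⟨hqW _ (mem_subgroupOf.1 hw).1,
        C.mul_mem (C.mul_mem hqC w.2) (inv_mem hqC)⟩, by simp⟩
    · rintro _ ⟨w, hw, rfl⟩ hcomm
      have hwW : (w : G) ∈ W := (mem_subgroupOf.1 hw).1
      have hzW : ∀ u ∈ W, z * u * z ∈ W := fun u hu => by
        have := hqW _ (hqW u hu)
        rwa [show q * (q * u * q⁻¹) * q⁻¹ = q * q * u * (q * q)⁻¹ by group, hq, hzi] at this
      set zc : C := ⟨z, hzC⟩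
      set κ := w⁻¹ * (zc * w * zc) with hκ
      have hzc : zc * zc = 1 := Subtype.ext hz
      have hκO : κ ∈ O := by
        rw [← hker, hκ, map_mul, map_inv, map_mul, map_mul, hcomm.eq, mul_assoc, ← map_mul, hzc,
          map_one, mul_one, inv_mul_cancel]
      have hκW : (κ : G) ∈ W := W.mul_mem (inv_mem hwW) (hzW _ hwW)
      have hκinv : zc * κ * zc = κ⁻¹ := by
        rw [hκ, mul_inv_rev, mul_inv_rev, mul_inv_rev, inv_eq_of_mul_eq_one_right hzc, inv_inv]
        calc zc * (w⁻¹ * (zc * w * zc)) * zc = zc * (w⁻¹ * zc) * w * (zc * zc) := by group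
          _ = _ := by rw [hzc, mul_one]
      obtain ⟨m, hm⟩ : Odd (orderOf (κ : G)) := hWodd.of_dvd_nat (orderOf_dvd_natCard W hκW)
      set k := κ ^ (m + 1) with hk
      have hk2 : k * k = κ := by
        rw [hk, ← pow_add, show m + 1 + (m + 1) = orderOf (κ : G) + 1 by omega, pow_succ,
          show κ ^ orderOf (κ : G) = 1 from Subtype.ext (by rw [Subgroup.coe_pow]; exact pow_orderOf_eq_one _),
          one_mul]
      have hkinv : zc * k * zc = k⁻¹ := by
        have h1 : zc * k * zc⁻¹ = (zc * κ * zc⁻¹) ^ (m + 1) := by rw [hk, conj_pow]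
        rw [inv_eq_of_mul_eq_one_right hzc, hκinv, inv_pow, ← hk] at h1
        exact h1
      set y := w * k with hy
      have hzy : zc * y * zc = y := by
        rw [hy]
        calc zc * (w * k) * zc = zc * w * (zc * zc) * k * zc := by rw [hzc, mul_one, mul_assoc zc w k]
          _ = (zc * w * zc) * (zc * k * zc) := by group
          _ = w * κ * k⁻¹ := by rw [hkinv, hκ]; group
          _ = w * k := by rw [← hk2]; group
      have hyz : (y : G) ∈ W ⊓ centralizer ({z} : Set G) := by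
        refine ⟨W.mul_mem hwW (by rw [hk, Subgroup.coe_pow]; exact pow_mem hκW _), ?_⟩
        have h1 := congrArg Subtype.val hzy
        simp only [Subgroup.coe_mul] at h1
        refine mem_centralizer_singleton_iff.2 ?_
        calc (y : G) * z = z * y * z * z := by rw [h1]
          _ = z * y := by rw [mul_assoc, hz, mul_one]
      have hyv := Signalizer.core_inf_centralizer_le_core (p := 2) (a := z) (b := v)
        (by rw [pow_two]; exact hz) (by rw [← hq]; exact (hqv.mul_left hqv).eq) hcon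
        ⟨hWz hyz, y.2⟩
      obtain ⟨y', hy', hyy'⟩ := hyv
      have : y' = y := Subtype.ext hyy'
      rw [this] at hy'
      have h1 : π y = 1 := (hker _).2 hy'
      rwa [hy, map_mul, show π k = 1 from (hker _).2 (pow_mem hκO _), mul_one] at h1
  intro w hw
  refine ⟨⟨w, hw.2⟩, (hker _).1 ?_, rfl⟩
  have : π ⟨w, hw.2⟩ ∈ X := ⟨⟨w, hw.2⟩, hw, rfl⟩
  rw [hX1] at this
  exact mem_bot.1 this

end Cfsg.Agent.NonComponent
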